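import Groth.Agent.CalgA.AdicLe
import Mathlib.RingTheory.AdicCompletion.AsTensorProduct
import Mathlib.RingTheory.AdicCompletion.Noetherian
import Mathlib.RingTheory.AdicCompletion.Functoriality
import Mathlib.RingTheory.AdicCompletion.Exactness

/-!
Stacks 0DYC: `A` Noetherian, `I`-adically complete and `A / I` `J`-adically complete implies that `A` is
`(I ⊔ J)`-adically complete and `J`-adically complete.
-/

set_option autoImplicit false

namespace Groth.Agent.CalgA.AdicQuot

open Groth.Agent.CalgA.AdicLe

universe u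

variable {A : Type u} [CommRing A]

theorem sup_le_jacobson (I J : Ideal A) [IsAdicComplete I A]
    [IsAdicComplete (Ideal.map (Ideal.Quotient.mk I) J) (A ⧸ I)] :
    I ⊔ J ≤ Ideal.jacobson ⊥ := by
  have h1 := IsAdicComplete.le_jacobson_bot I
  have h2 := IsAdicComplete.le_jacobson_bot (Ideal.map (Ideal.Quotient.mk I) J)
  refine sup_le h1 ?_
  have h3 : J ≤ Ideal.comap (Ideal.Quotient.mk I) (Ideal.jacobson ⊥) :=
    Ideal.map_le_iff_le_comap.mp h2
  rw [Ideal.comap_jacobson_of_surjective Ideal.Quotient.mk_surjective] at h3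
  refine h3.trans ?_
  have h4 : Ideal.comap (Ideal.Quotient.mk I) ⊥ = I := by
    rw [← RingHom.ker_eq_comap_bot, Ideal.mk_ker]
  rw [h4]
  calc Ideal.jacobson I ≤ Ideal.jacobson (Ideal.jacobson ⊥) := Ideal.jacobson_mono h1
    _ = Ideal.jacobson ⊥ := Ideal.jacobson_idem

theorem isAdicComplete_sup [IsNoetherianRing A] (I J : Ideal A) [IsAdicComplete I A]
    [IsAdicComplete (Ideal.map (Ideal.Quotient.mk I) J) (A ⧸ I)] : IsAdicComplete (I ⊔ J) A := by
  set K := I ⊔ J with hK
  have hmap : Ideal.map (algebraMap A (A ⧸ I)) K = Ideal.map (Ideal.Quotient.mk I) J := by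
    rw [hK, Ideal.map_sup]
    show Ideal.map (Ideal.Quotient.mk I) I ⊔ _ = _
    rw [Ideal.map_quotient_self, bot_sup_eq]
    rfl
  have hAI : IsAdicComplete K (A ⧸ I) := by
    rw [← IsAdicComplete.map_algebraMap_iff (S := A ⧸ I), hmap]
    infer_instance
  have hHaus : IsHausdorff K A := IsHausdorff.of_le_jacobson K A (sup_le_jacobson I J)
  have hKfg : K.FG := (isNoetherianRing_iff_ideal_fg A).mp inferInstance K
  have hIfg : I.FG := (isNoetherianRing_iff_ideal_fg A).mp inferInstance I
  have hB : IsAdicComplete K (AdicCompletion K A) := AdicCompletion.isAdicComplete hKfg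
  have hBI : IsAdicComplete I (AdicCompletion K A) := isAdicComplete_of_le (J := K) (le_sup_left) hIfg
  have hsurj : Function.Surjective (AdicCompletion.of K A) := by
    apply surjective_of_mkQ_comp_surjective (I := I)
    intro b'
    obtain ⟨b, rfl⟩ := Submodule.mkQ_surjective _ b'
    obtain ⟨a', ha'⟩ := AdicCompletion.of_surjective K (A ⧸ I)
      (AdicCompletion.map K (Submodule.mkQ I) b)
    obtain ⟨a, rfl⟩ := Submodule.mkQ_surjective _ a'
    refine ⟨a, ?_⟩
    rw [LinearMap.comp_apply, eq_comm, ← sub_eq_zero, ← map_sub, Submodule.mkQ_apply,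
      Submodule.Quotient.mk_eq_zero]
    have h1 : AdicCompletion.map K (Submodule.mkQ I) (b - AdicCompletion.of K A a) = 0 := by
      rw [map_sub, ← ha', AdicCompletion.map_of, sub_self]
    have hex := AdicCompletion.map_exact (I := K) (f := Submodule.subtype I)
      (g := Submodule.mkQ I) (Submodule.subtype_injective _)
      (by
        rw [LinearMap.exact_iff]
        simp) (Submodule.mkQ_surjective _)
    obtain ⟨z, hz⟩ := (hex _).mp h1
    have hfin : Module.Finite A I := Module.Finite.iff_fg.mpr hIfg
    obtain ⟨t, rfl⟩ := AdicCompletion.ofTensorProduct_surjective_of_finite K I z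
    rw [← hz]
    clear hz h1 hex
    induction t using TensorProduct.induction_on with
    | zero => simp
    | tmul r x =>
      rw [AdicCompletion.ofTensorProduct_tmul, map_smul, AdicCompletion.map_of]
      have h2 : r • AdicCompletion.of K A (I.subtype x) = (x : A) • r := by
        rw [smul_eq_mul, mul_comm, Algebra.smul_def]
        rfl
      rw [h2]
      exact Submodule.smul_mem_smul x.2 trivial
    | add x y hx hy =>
      rw [map_add, map_add]
      exact Submodule.add_mem _ hx hy
  have hbij : Function.Bijective (AdicCompletion.of K A) :=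
    ⟨AdicCompletion.of_injective K A, hsurj⟩
  exact AdicCompletion.of_bijective_iff.mp hbij

/-- Stacks 0DYC. -/
theorem isAdicComplete_of_quotient [IsNoetherianRing A] (I J : Ideal A) [IsAdicComplete I A]
    [IsAdicComplete (Ideal.map (Ideal.Quotient.mk I) J) (A ⧸ I)] : IsAdicComplete J A := by
  have := isAdicComplete_sup I J
  exact isAdicComplete_of_le (J := I ⊔ J) le_sup_right
    ((isNoetherianRing_iff_ideal_fg A).mp inferInstance J)

end Groth.Agent.CalgA.AdicQuot
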