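import Groth.Agent.CalgA.FlatLift
import Groth.Agent.CalgA.H1Union
import Mathlib.RingTheory.Flat.TorsionFree
import Mathlib.RingTheory.Ideal.Int
import Mathlib.RingTheory.TensorProduct.Quotient
import Mathlib.RingTheory.DedekindDomain.PID
import Mathlib.Data.ZMod.QuotientRing

/-!
# Lifting property of Cohen rings
-/

set_option autoImplicit false

open scoped TensorProduct

namespace Groth.Agent.CalgA.CohenLift

/-- If `R/I` is a perfect field and `Λ/IΛ` is a field, then `(R/I) ⊗ Λ` is formally smooth over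
`R/I`. -/
theorem formallySmooth_tensor_of_isMaximal {R Λ : Type*} [CommRing R] [CommRing Λ] [Algebra R Λ]
    (I : Ideal R) (hI : I.IsMaximal)
    (hperf : letI := Ideal.Quotient.field I; PerfectField (R ⧸ I))
    (hmax : (I.map (algebraMap R Λ)).IsMaximal) :
    Algebra.FormallySmooth (R ⧸ I) ((R ⧸ I) ⊗[R] Λ) := by
  let _ := Ideal.Quotient.field I
  let _ : Field (Λ ⧸ I.map (algebraMap R Λ)) := Ideal.Quotient.field _
  have h : Algebra.FormallySmooth (R ⧸ I) (Λ ⧸ I.map (algebraMap R Λ)) :=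
    H1Union.formallySmooth_of_perfectField (R ⧸ I) (Λ ⧸ I.map (algebraMap R Λ))
  exact .of_equiv (Algebra.TensorProduct.quotIdealMapEquivQuotTensor Λ I)

/-- Lifting property of `ℤ`-flat rings `Λ` with `Λ/p` a field: every ring map
`Λ → C/J`, with `C` `J`-adically complete and `p ∈ J`, lifts to `Λ → C`. -/
theorem exists_lift_of_flat (p : ℕ) [Fact p.Prime] {Λ : Type*} [CommRing Λ] [Module.Flat ℤ Λ]
    (hmax : (Ideal.span {(p : Λ)}).IsMaximal)
    {C : Type*} [CommRing C] (J : Ideal C) [IsAdicComplete J C] (hp : (p : C) ∈ J)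
    (f : Λ →+* C ⧸ J) : ∃ g : Λ →+* C, (Ideal.Quotient.mk J).comp g = f := by
  let I : Ideal ℤ := Ideal.span {(p : ℤ)}
  have hI : I.IsMaximal := Int.ideal_span_isMaximal_of_prime p
  have hfs : Algebra.FormallySmooth (ℤ ⧸ I) ((ℤ ⧸ I) ⊗[ℤ] Λ) := by
    refine formallySmooth_tensor_of_isMaximal I hI ?_ ?_
    · have hfin : Finite (ℤ ⧸ I) := by
        exact Finite.of_equiv _ (Int.quotientSpanNatEquivZMod p).symm.toEquiv
      let _ := Ideal.Quotient.field I
      exact PerfectField.ofFinite
    · rw [Ideal.map_span, Set.image_singleton]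
      simpa using hmax
  have hIJ : I.map (algebraMap ℤ C) ≤ J := by
    rw [Ideal.map_span, Set.image_singleton, Ideal.span_le, Set.singleton_subset_iff]
    simpa using hp
  obtain ⟨g, hg⟩ := FlatLift.exists_lift_of_isAdicComplete I hfs J hIJ f.toIntAlgHom
  refine ⟨g, ?_⟩
  ext x
  exact congr($hg x)

end Groth.Agent.CalgA.CohenLift
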