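import Mathlib.Order.Zorn
import Mathlib.Order.CompactlyGenerated.Basic
import Mathlib.Order.ModularLattice

/-!
An abstract form of Kaplansky's transfinite devissage, via Zorn's lemma.
-/

set_option autoImplicit false
universe u v w

namespace Groth.Agent.CalgA.Devissage

theorem sSupIndep_insert {L : Type*} [CompleteLattice L] [IsModularLattice L] {s : Set L}
    (hs : sSupIndep s) {c : L} (hc : Disjoint (sSup s) c) : sSupIndep (insert c s) := by
  intro a ha
  rcases Set.mem_insert_iff.1 ha with rfl | has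
  · refine (hc.mono_left ?_).symm
    apply sSup_le_sSup
    rintro x ⟨hx, hxa⟩
    rcases Set.mem_insert_iff.1 hx with rfl | hxs
    · exact absurd rfl hxa
    · exact hxs
  · have h1 : Disjoint a (sSup (s \ {a})) := hs has
    have h2 : a ⊔ sSup (s \ {a}) ≤ sSup s :=
      sup_le (le_sSup has) (sSup_le_sSup Set.sdiff_subset)
    have h3 : Disjoint (a ⊔ sSup (s \ {a})) c := hc.mono_left h2
    have h4 := h1.disjoint_sup_right_of_disjoint_sup_left h3
    refine h4.mono_right ?_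
    apply sSup_le
    rintro x ⟨hx, hxa⟩
    rcases Set.mem_insert_iff.1 hx with rfl | hxs
    · exact le_sup_right
    · have h5 : x ∈ s \ {a} := ⟨hxs, hxa⟩
      exact (le_sSup h5).trans le_sup_left

theorem exists_indep {α : Type*} [CompleteLattice α] {L : Type*} [CompleteLattice L]
    [IsModularLattice L] [IsCompactlyGenerated L] (good : α → Prop) (F : α → L) (P : L → Prop)
    (h0 : good ⊥) (hF0 : F ⊥ = ⊥)
    (hsup : ∀ c : Set α, c.Nonempty → IsChain (· ≤ ·) c → (∀ a ∈ c, good a) → good (sSup c))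
    (hFsup : ∀ c : Set α, c.Nonempty → IsChain (· ≤ ·) c → (∀ a ∈ c, good a) →
      F (sSup c) = ⨆ a ∈ c, F a)
    (hstep : ∀ a, good a → a ≠ ⊤ → ∃ b, a < b ∧ good b ∧
      ∃ C, P C ∧ Disjoint (F a) C ∧ F a ⊔ C = F b) :
    ∃ S : Set L, sSupIndep S ∧ sSup S = F ⊤ ∧ ∀ C ∈ S, P C := by
  let T : Set (α × Set L) := {x | good x.1 ∧ sSupIndep x.2 ∧ sSup x.2 = F x.1 ∧ ∀ C ∈ x.2, P C}
  obtain ⟨m, -, hm⟩ := zorn_le_nonempty₀ T (by
    intro c hcT hc y hy
    have hc1 : IsChain (· ≤ ·) (Prod.fst '' c) := by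
      rintro _ ⟨a, ha, rfl⟩ _ ⟨b, hb, rfl⟩ _
      rcases hc.total ha hb with h | h
      · exact Or.inl h.1
      · exact Or.inr h.1
    have hgood : ∀ a ∈ Prod.fst '' c, good a := by
      rintro _ ⟨a, ha, rfl⟩
      exact (hcT ha).1
    have hne : (Prod.fst '' c).Nonempty := ⟨y.1, y, hy, rfl⟩
    refine ⟨(sSup (Prod.fst '' c), ⋃ x : c, x.1.2), ⟨hsup _ hne hc1 hgood, ?_, ?_, ?_⟩, ?_⟩
    · apply sSupIndep_iUnion_of_directed
      · rintro ⟨a, ha⟩ ⟨b, hb⟩
        rcases hc.total ha hb with h | h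
        · exact ⟨⟨b, hb⟩, h.2, le_rfl⟩
        · exact ⟨⟨a, ha⟩, le_rfl, h.2⟩
      · rintro ⟨a, ha⟩
        exact (hcT ha).2.1
    · show sSup (⋃ x : c, x.1.2) = F (sSup (Prod.fst '' c))
      rw [hFsup _ hne hc1 hgood, sSup_iUnion]
      apply le_antisymm
      · apply iSup_le
        rintro ⟨a, ha⟩
        rw [(hcT ha).2.2.1]
        exact le_iSup₂_of_le a.1 ⟨a, ha, rfl⟩ le_rfl
      · apply iSup₂_le
        rintro _ ⟨a, ha, rfl⟩
        rw [← (hcT ha).2.2.1]
        exact le_iSup (fun x : c => sSup x.1.2) ⟨a, ha⟩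
    · intro C hC
      obtain ⟨⟨a, ha⟩, haC⟩ := Set.mem_iUnion.1 hC
      exact (hcT ha).2.2.2 C haC
    · intro z hz
      exact ⟨le_sSup ⟨z, hz, rfl⟩, Set.subset_iUnion (fun x : c => x.1.2) ⟨z, hz⟩⟩)
    (⊥, ∅) ⟨h0, sSupIndep_empty, by simp [hF0], by simp⟩
  obtain ⟨⟨hm1, hm2, hm3, hm4⟩, hmax⟩ := hm
  by_cases htop : m.1 = ⊤
  · exact ⟨m.2, hm2, by rw [hm3, htop], hm4⟩
  · exfalso
    obtain ⟨b, hlt, hb, C, hPC, hdisj, hsupC⟩ := hstep m.1 hm1 htop
    have h1 : ((b, insert C m.2) : α × Set L) ∈ T := by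
      refine ⟨hb, sSupIndep_insert hm2 (by rw [hm3]; exact hdisj), ?_, ?_⟩
      · show sSup (insert C m.2) = F b
        rw [sSup_insert, hm3, sup_comm, hsupC]
      · intro D hD
        rcases Set.mem_insert_iff.1 hD with rfl | hD
        · exact hPC
        · exact hm4 D hD
    have h2 : m ≤ ((b, insert C m.2) : α × Set L) := ⟨hlt.le, Set.subset_insert _ _⟩
    have h3 := hmax h1 h2
    exact absurd h3.1 (not_le_of_gt hlt)

end Groth.Agent.CalgA.Devissage
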