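import Mathlib.AlgebraicGeometry.AffineSpace
import Mathlib.AlgebraicGeometry.IdealSheaf.Subscheme
import Mathlib.AlgebraicGeometry.Morphisms.Integral
import Mathlib.AlgebraicGeometry.Morphisms.Finite
import Mathlib.AlgebraicGeometry.Morphisms.Proper

/-!
# Factoring an integral surjective morphism with affine source through a finite one

If `f : X ⟶ S` is integral and surjective with `X` affine, there is a factorization
`X ⟶ Z ⟶ S` with `Z` affine and `Z ⟶ S` finite and surjective.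
-/

set_option autoImplicit false
set_option backward.isDefEq.respectTransparency false
set_option backward.defeqAttrib.useBackward true
universe u
open CategoryTheory AlgebraicGeometry Limits

namespace Groth.Agent.CalgA.FiniteFactor

/-- Finitely many basic opens subordinate to a family of opens. -/
theorem exists_basicOpen_cover {X S : Scheme.{u}} (f : X ⟶ S) [IsAffine X] :
    ∃ (s : Finset Γ(X, ⊤)), Ideal.span (s : Set Γ(X, ⊤)) = ⊤ ∧
      ∀ b ∈ s, ∃ U : S.Opens, IsAffineOpen U ∧ X.basicOpen b ≤ f ⁻¹ᵁ U := by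
  have key : ∀ x : X, ∃ (U : S.Opens) (b : Γ(X, ⊤)), IsAffineOpen U ∧ X.basicOpen b ≤ f ⁻¹ᵁ U ∧
      x ∈ X.basicOpen b := by
    intro x
    obtain ⟨_, ⟨U, hU, rfl⟩, hxU, -⟩ :=
      S.isBasis_affineOpens.exists_subset_of_mem_open (Set.mem_univ (f x)) isOpen_univ
    obtain ⟨_, ⟨_, ⟨b, rfl⟩, rfl⟩, hxb, hbU⟩ :=
      (isBasis_basicOpen X).exists_subset_of_mem_open (show x ∈ (f ⁻¹ᵁ U : Set X) from hxU)
        (f ⁻¹ᵁ U).isOpen
    exact ⟨U, b, hU, hbU, hxb⟩
  let T : Set Γ(X, ⊤) := {b | ∃ U : S.Opens, IsAffineOpen U ∧ X.basicOpen b ≤ f ⁻¹ᵁ U}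
  have hT : Ideal.span T = ⊤ := by
    rw [← (isAffineOpen_top X).iSup_basicOpen_eq_self_iff]
    rw [eq_top_iff]
    intro x _
    obtain ⟨U, b, hU, hbU, hxb⟩ := key x
    exact TopologicalSpace.Opens.mem_iSup.2 ⟨⟨b, U, hU, hbU⟩, hxb⟩
  obtain ⟨s, hs, hs'⟩ := (Ideal.span_eq_top_iff_finite _).mp hT
  exact ⟨s, hs', fun b hb => hs hb⟩

theorem toImage_appTop_injective {X Y : Scheme.{u}} (h : X ⟶ Y) [QuasiCompact h] :
    Function.Injective h.toImage.appTop := by
  have := TopCat.Presheaf.app_injective_of_stalkFunctor_map_injective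
    (F := h.image.sheaf) h.toImage.c ⊤ (fun x _ => h.stalkFunctor_toImage_injective x)
  exact this

theorem exists_finite_factor {X S : Scheme.{u}} (f : X ⟶ S) [IsAffine X] [Surjective f]
    [IsIntegralHom f] :
    ∃ (Z : Scheme.{u}) (h : X ⟶ Z) (g : Z ⟶ S), IsAffine Z ∧ IsFinite g ∧ Surjective g ∧
      Surjective h ∧ h ≫ g = f := by
  classical
  obtain ⟨s, hs, hsU⟩ := exists_basicOpen_cover f
  -- coefficients of a relation `1 = ∑ c b`
  obtain ⟨c, hc⟩ : ∃ c : Γ(X, ⊤) → Γ(X, ⊤), ∑ b ∈ s, c b * b = 1 := by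
    have h1 : (1 : Γ(X, ⊤)) ∈ Ideal.span (s : Set Γ(X, ⊤)) := by rw [hs]; trivial
    exact (Submodule.mem_span_finset.1 h1).imp fun c hc => by simpa using hc.2
  let n : Type u := {x : Γ(X, ⊤) // x ∈ s ∪ s.image c}
  let h : X ⟶ 𝔸(n; S) := AffineSpace.homOfVector f (fun x => x.1)
  have hh : h ≫ (𝔸(n; S) ↘ S) = f := AffineSpace.homOfVector_over _ _
  have : IsIntegralHom (h ≫ (𝔸(n; S) ↘ S)) := by rw [hh]; infer_instance
  have hint : IsIntegralHom h := IsIntegralHom.of_comp h (𝔸(n; S) ↘ S)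
  let Z := h.image
  let g : Z ⟶ S := h.imageι ≫ (𝔸(n; S) ↘ S)
  have hg : h.toImage ≫ g = f := by
    simp only [g]
    rw [Scheme.Hom.toImage_imageι_assoc, hh]
  have hI : IsIntegralHom (h.toImage ≫ h.imageι) := by rw [Scheme.Hom.toImage_imageι]; infer_instance
  have hI2 : IsIntegralHom h.toImage := IsIntegralHom.of_comp h.toImage h.imageι
  have hsurj : Surjective h.toImage := inferInstance
  have hsg : Surjective (h.toImage ≫ g) := by rw [hg]; infer_instance
  have hsg' : Surjective g := Surjective.of_comp h.toImage g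
  have huc : UniversallyClosed (h.toImage ≫ g) := by rw [hg]; infer_instance
  have huc' : UniversallyClosed g := UniversallyClosed.of_comp_surjective h.toImage g
  have haff : IsAffineHom g := inferInstance
  have hgint : IsIntegralHom g := IsIntegralHom.iff_universallyClosed_and_isAffineHom.2 ⟨huc', haff⟩
  have hft : LocallyOfFiniteType g := inferInstance
  have hfin : IsFinite g := (IsFinite.iff_isIntegralHom_and_locallyOfFiniteType g).2 ⟨hgint, hft⟩
  refine ⟨Z, h.toImage, g, ?_, hfin, hsg', hsurj, hg⟩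
  -- `Z` is affine
  let i : 𝔸(n; S) ⟶ 𝔸(n; S) := 𝟙 _
  let β : n → Γ(Z, ⊤) := fun x => h.imageι.appTop (AffineSpace.coord S x)
  have hβ : ∀ x : n, h.toImage.appTop (β x) = x.1 := by
    intro x
    have h1 : (h.toImage ≫ h.imageι).appTop (AffineSpace.coord S x) = x.1 := by
      rw [Scheme.Hom.toImage_imageι]
      exact AffineSpace.homOfVector_appTop_coord _ _ _
    rw [← h1, Scheme.Hom.comp_appTop]
    rfl
  let β' : Γ(X, ⊤) → Γ(Z, ⊤) := fun x => if hx : x ∈ s ∪ s.image c then β ⟨x, hx⟩ else 0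
  have hβ' : ∀ x ∈ s ∪ s.image c, h.toImage.appTop (β' x) = x := by
    intro x hx
    simp only [β', dif_pos hx]
    exact hβ ⟨x, hx⟩
  refine isAffine_of_isAffineOpen_basicOpen (s.image β' : Finset Γ(Z, ⊤)) ?_ ?_
  · rw [Ideal.eq_top_iff_one]
    have h1 : ∑ b ∈ s, β' (c b) * β' b = 1 := by
      apply toImage_appTop_injective h
      rw [map_sum, map_one]
      refine Eq.trans (Finset.sum_congr rfl fun b hb => ?_) hc
      rw [map_mul, hβ' b (Finset.mem_union_left _ hb),
        hβ' (c b) (Finset.mem_union_right _ (Finset.mem_image_of_mem _ hb))]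
    rw [← h1]
    refine Ideal.sum_mem _ fun b hb => Ideal.mul_mem_left _ _ (Ideal.subset_span ?_)
    exact Finset.mem_coe.2 (Finset.mem_image_of_mem _ hb)
  · intro y hy
    obtain ⟨b, hb, rfl⟩ := Finset.mem_image.1 (Finset.mem_coe.1 hy)
    obtain ⟨U, hU, hbU⟩ := hsU b hb
    have hle : Z.basicOpen (β' b) ≤ g ⁻¹ᵁ U := by
      intro z hz
      obtain ⟨x, rfl⟩ := hsurj.surj z
      have hx : x ∈ h.toImage ⁻¹ᵁ (Z.basicOpen (β' b)) := hz
      rw [Scheme.preimage_basicOpen_top, hβ' b (Finset.mem_union_left _ hb)] at hx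
      have := hbU hx
      rw [← hg] at this
      exact this
    have hUg : IsAffineOpen (g ⁻¹ᵁ U) := hU.preimage g
    have := hUg.basicOpen (Z.presheaf.map (homOfLE le_top).op (β' b))
    rw [Scheme.basicOpen_res] at this
    rwa [inf_eq_right.2 hle] at this

end Groth.Agent.CalgA.FiniteFactor
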