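import Mathlib.RingTheory.Smooth.Quotient
import Mathlib.RingTheory.Smooth.AdicCompletion
import Mathlib.RingTheory.AdicCompletion.RingHom
import Mathlib.RingTheory.Flat.Basic
import Mathlib.LinearAlgebra.TensorProduct.RightExactness

/-!
# Lifting along complete rings for flat algebras with formally smooth special fibre

`A` a flat `R`-algebra, `I` an ideal of `R` such that `(R/I) ⊗ A` is formally smooth over `R/I`.
Then `(R/I^n) ⊗ A` is formally smooth over `R/I^n`, and every `R`-algebra map `A → C/J` lifts to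
`A → C` when `C` is `J`-adically complete and `IC ⊆ J`.
-/

set_option autoImplicit false

open scoped TensorProduct

namespace Groth.Agent.CalgA.FlatLift

variable {R : Type*} [CommRing R] (I : Ideal R) (A : Type*) [CommRing A] [Algebra R A]

/-- Flat + formally smooth modulo `I` implies formally smooth modulo `I ^ (n+1)`. -/
theorem formallySmooth_tensor_pow [Module.Flat R A]
    (h : Algebra.FormallySmooth (R ⧸ I) ((R ⧸ I) ⊗[R] A)) (n : ℕ) :
    Algebra.FormallySmooth (R ⧸ I ^ (n + 1)) ((R ⧸ I ^ (n + 1)) ⊗[R] A) := by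
  induction n with
  | zero =>
    have : ∀ K : Ideal R, K = I → Algebra.FormallySmooth (R ⧸ K) ((R ⧸ K) ⊗[R] A) := by
      rintro K rfl; exact h
    exact this _ (by simp)
  | succ n ih =>
    let q : R ⧸ I ^ (n + 1 + 1) →ₐ[R] R ⧸ I ^ (n + 1) :=
      Ideal.Quotient.factorₐ R (Ideal.pow_le_pow_right (Nat.le_succ _))
    have hq : Function.Surjective q :=
      Ideal.Quotient.factor_surjective (Ideal.pow_le_pow_right (Nat.le_succ _))
    let qS : (R ⧸ I ^ (n + 1 + 1)) ⊗[R] A →ₐ[R] (R ⧸ I ^ (n + 1)) ⊗[R] A :=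
      Algebra.TensorProduct.map q (AlgHom.id R A)
    have hqS : Function.Surjective qS := by
      exact LinearMap.rTensor_surjective A (g := q.toLinearMap) hq
    have hker : RingHom.ker q = (I ^ (n + 1)).map (Ideal.Quotient.mk (I ^ (n + 1 + 1))) := by
      ext x
      obtain ⟨x, rfl⟩ := Ideal.Quotient.mk_surjective x
      rw [RingHom.mem_ker]
      change Ideal.Quotient.mk (I ^ (n + 1)) x = 0 ↔ _
      rw [Ideal.Quotient.eq_zero_iff_mem,
        Ideal.mem_quotient_iff_mem (Ideal.pow_le_pow_right (Nat.le_succ _))]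
    have hflat : (algebraMap (R ⧸ I ^ (n + 1 + 1)) ((R ⧸ I ^ (n + 1 + 1)) ⊗[R] A)).Flat := by
      rw [RingHom.flat_algebraMap_iff]
      infer_instance
    have key := RingHom.FormallySmooth.of_flat_of_ker_eq_map_of_square_zero
      (algebraMap (R ⧸ I ^ (n + 1 + 1)) ((R ⧸ I ^ (n + 1 + 1)) ⊗[R] A)) hflat
      (q : R ⧸ I ^ (n + 1 + 1) →+* R ⧸ I ^ (n + 1))
      (qS : (R ⧸ I ^ (n + 1 + 1)) ⊗[R] A →+* (R ⧸ I ^ (n + 1)) ⊗[R] A)
      (algebraMap (R ⧸ I ^ (n + 1)) ((R ⧸ I ^ (n + 1)) ⊗[R] A)) hq hqS ?_ ?_ ?_ ?_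
    · rwa [RingHom.formallySmooth_algebraMap] at key
    · ext x
      simp [qS, q]
    · have : RingHom.ker (q : R ⧸ I ^ (n + 1 + 1) →+* R ⧸ I ^ (n + 1)) = RingHom.ker q := rfl
      rw [this, hker, ← Ideal.map_pow, ← pow_mul, Ideal.map_eq_bot_iff_le_ker, Ideal.mk_ker]
      exact Ideal.pow_le_pow_right (by nlinarith)
    · exact Algebra.TensorProduct.rTensor_ker (f := q) (C := A) hq
    · rwa [RingHom.formallySmooth_algebraMap]

variable {A}

/-- Lifting along a surjection `π` with nilpotent kernel whose source is killed by a power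
of `I`. -/
theorem exists_lift_of_surjective [Module.Flat R A]
    (h : Algebra.FormallySmooth (R ⧸ I) ((R ⧸ I) ⊗[R] A)) {C C' : Type*} [CommRing C]
    [CommRing C'] [Algebra R C] [Algebra R C'] (π : C →ₐ[R] C') (hπ : Function.Surjective π)
    (hker : IsNilpotent (RingHom.ker π)) (n : ℕ) (hn : (I ^ n).map (algebraMap R C) = ⊥)
    (f : A →ₐ[R] C') : ∃ g : A →ₐ[R] C, π.comp g = f := by
  have hn' : (I ^ (n + 1)).map (algebraMap R C) = ⊥ := by
    rw [eq_bot_iff, ← hn]
    exact Ideal.map_mono (Ideal.pow_le_pow_right (Nat.le_succ _))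
  have hs := formallySmooth_tensor_pow I A h n
  let a : R ⧸ I ^ (n + 1) →+* C := Ideal.Quotient.lift _ (algebraMap R C) fun x hx => by
    have := Ideal.mem_map_of_mem (algebraMap R C) hx
    rwa [hn', Ideal.mem_bot] at this
  let : Algebra (R ⧸ I ^ (n + 1)) C := a.toAlgebra
  let : Algebra (R ⧸ I ^ (n + 1)) C' := ((π : C →+* C').comp a).toAlgebra
  have : IsScalarTower R (R ⧸ I ^ (n + 1)) C := IsScalarTower.of_algebraMap_eq fun x => rfl
  have : IsScalarTower R (R ⧸ I ^ (n + 1)) C' := IsScalarTower.of_algebraMap_eq fun x => by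
    change _ = π (algebraMap R C x)
    rw [AlgHom.commutes]
  let π' : C →ₐ[R ⧸ I ^ (n + 1)] C' :=
    { (π : C →+* C') with commutes' := fun r => rfl }
  let f' : (R ⧸ I ^ (n + 1)) ⊗[R] A →ₐ[R ⧸ I ^ (n + 1)] C' :=
    Algebra.TensorProduct.lift (Algebra.ofId _ _) f (fun _ _ => Commute.all _ _)
  let g' := Algebra.FormallySmooth.liftOfSurjective f' π' hπ hker
  refine ⟨(g'.restrictScalars R).comp Algebra.TensorProduct.includeRight, ?_⟩
  ext x
  have hx := Algebra.FormallySmooth.liftOfSurjective_apply f' π' hπ hker (1 ⊗ₜ x)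
  change π' (g' (1 ⊗ₜ x)) = f x
  refine hx.trans ?_
  simp [f']

/-- **Lifting theorem.**  `A` flat over `R` with `(R/I) ⊗ A` formally smooth over `R/I`, `C` a
`J`-adically complete `R`-algebra with `IC ⊆ J`: every `R`-algebra map `A → C/J` lifts to
`A → C`. -/
theorem exists_lift_of_isAdicComplete [Module.Flat R A]
    (h : Algebra.FormallySmooth (R ⧸ I) ((R ⧸ I) ⊗[R] A)) {C : Type*} [CommRing C]
    [Algebra R C] (J : Ideal C) [IsAdicComplete J C] (hIJ : I.map (algebraMap R C) ≤ J)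
    (f : A →ₐ[R] C ⧸ J) : ∃ g : A →ₐ[R] C, (Ideal.Quotient.mkₐ R J).comp g = f := by
  have step : ∀ (n : ℕ) (g : A →ₐ[R] C ⧸ J ^ n), ∃ g' : A →ₐ[R] C ⧸ J ^ (n + 1),
      1 ≤ n → (Ideal.Quotient.factorₐ R (Ideal.pow_le_pow_right (Nat.le_succ n))).comp g' = g := by
    intro n g
    by_cases hn : 1 ≤ n
    · have h1 : IsNilpotent (RingHom.ker (Ideal.Quotient.factorₐ R
          (Ideal.pow_le_pow_right (I := J) (Nat.le_succ n)))) := by
        refine ⟨2, ?_⟩
        have hker : RingHom.ker (Ideal.Quotient.factorₐ R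
            (Ideal.pow_le_pow_right (I := J) (Nat.le_succ n))) =
            (J ^ n).map (Ideal.Quotient.mk (J ^ (n + 1))) := by
          ext x
          obtain ⟨x, rfl⟩ := Ideal.Quotient.mk_surjective x
          rw [RingHom.mem_ker]
          change Ideal.Quotient.mk (J ^ n) x = 0 ↔ _
          rw [Ideal.Quotient.eq_zero_iff_mem,
            Ideal.mem_quotient_iff_mem (Ideal.pow_le_pow_right (Nat.le_succ _))]
        rw [hker, ← Ideal.map_pow, ← pow_mul, Ideal.zero_eq_bot,
          Ideal.map_eq_bot_iff_le_ker, Ideal.mk_ker]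
        exact Ideal.pow_le_pow_right (by lia)
      have h2 : (I ^ (n + 1)).map (algebraMap R (C ⧸ J ^ (n + 1))) = ⊥ := by
        rw [Ideal.map_eq_bot_iff_le_ker, IsScalarTower.algebraMap_eq R C, ← RingHom.comap_ker,
          ← Ideal.map_le_iff_le_comap, Ideal.map_pow, Ideal.Quotient.algebraMap_eq, Ideal.mk_ker]
        exact Ideal.pow_right_mono hIJ _
      obtain ⟨g', hg'⟩ := exists_lift_of_surjective I h
        (Ideal.Quotient.factorₐ R (Ideal.pow_le_pow_right (I := J) (Nat.le_succ n)))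
        (Ideal.Quotient.factor_surjective (Ideal.pow_le_pow_right (Nat.le_succ n)))
        h1 (n + 1) h2 g
      exact ⟨g', fun _ => hg'⟩
    · have : n = 0 := by lia
      subst this
      have : Subsingleton (C ⧸ J ^ 0) := by simp
      exact ⟨(Ideal.quotientEquivAlgOfEq R (show J = J ^ (0 + 1) by simp)).toAlgHom.comp f,
        fun h => absurd h (by simp)⟩
  let F : (n : ℕ) → (A →ₐ[R] C ⧸ J ^ (n + 1)) := fun n => Nat.rec
    ((Ideal.quotientEquivAlgOfEq R (show J = J ^ (0 + 1) by simp)).toAlgHom.comp f)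
    (fun n g => (step (n + 1) g).choose) n
  have hF : ∀ n, (Ideal.Quotient.factorₐ R (Ideal.pow_le_pow_right (Nat.le_succ (n + 1)))).comp
      (F (n + 1)) = F n := fun n => (step (n + 1) (F n)).choose_spec (by simp)
  let G : (n : ℕ) → (A →ₐ[R] C ⧸ J ^ n) := fun n => Nat.casesOn n
    (haveI : Subsingleton (C ⧸ J ^ 0) := by simp
     default) F
  have hG : ∀ n, (Ideal.Quotient.factorₐ R (Ideal.pow_le_pow_right (Nat.le_succ n))).comp
      (G (n + 1)) = G n := by
    intro n
    cases n with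
    | zero =>
      have : Subsingleton (C ⧸ J ^ 0) := by simp
      ext x
      exact Subsingleton.elim _ _
    | succ n => exact hF n
  have hG' : ∀ {m n : ℕ} (hle : m ≤ n),
      (Ideal.Quotient.factorₐ R (Ideal.pow_le_pow_right hle)).comp (G n) = G m := by
    intro m n hle
    induction n, hle using Nat.le_induction with
    | base => ext x; simp
    | succ n hmn ih =>
      rw [← ih, ← hG n, ← AlgHom.comp_assoc, Ideal.Quotient.factorₐ_comp]
  refine ⟨IsAdicComplete.liftAlgHom J G hG', ?_⟩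
  ext x
  have h1 : Ideal.Quotient.mk (J ^ 1) (IsAdicComplete.liftAlgHom J G hG' x) = G 1 x :=
    IsAdicComplete.mk_liftAlgHom J G hG' 1 x
  have h2 : ∀ (K : Ideal C) (hK : J = K) (y : C) (z : C ⧸ J),
      Ideal.Quotient.mk K y = Ideal.quotientEquivAlgOfEq R hK z → Ideal.Quotient.mk J y = z := by
    rintro K rfl y z hyz
    obtain ⟨z, rfl⟩ := Ideal.Quotient.mk_surjective z
    simpa using hyz
  exact h2 (J ^ 1) (by simp) _ _ h1

end Groth.Agent.CalgA.FlatLift
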