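import Mathlib.RingTheory.AdicCompletion.Completeness
import Mathlib.RingTheory.Flat.Basic
import Mathlib.RingTheory.Flat.Tensor
import Mathlib.RingTheory.Flat.Stability
import Mathlib.LinearAlgebra.TensorProduct.RightExactness
import Mathlib.LinearAlgebra.TensorProduct.Pi
import Mathlib.RingTheory.Filtration

/-!
# Flatness of complete modules (Stacks 0912)

`flat_of_isAdicComplete`: `A` Noetherian, `I` an ideal, `M` an `I`-adically complete `A`-module such that
tensoring with `M` preserves injections of modules killed by powers of `I`.  Then `M` is flat.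
-/

set_option autoImplicit false
universe u v w w'

open TensorProduct Function

namespace Groth.Agent.CalgA.FlatLim

section Complete

variable {A : Type u} [CommRing A] (I : Ideal A)

theorem isAdicComplete_congr {M : Type v} {N : Type w} [AddCommGroup M] [Module A M]
    [AddCommGroup N] [Module A N] (e : M ≃ₗ[A] N) [IsAdicComplete I M] : IsAdicComplete I N := by
  rw [← AdicCompletion.of_bijective_iff]
  have h : ⇑(AdicCompletion.of I N) = ⇑(AdicCompletion.congr I e) ∘ ⇑(AdicCompletion.of I M) ∘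
      ⇑e.symm := by
    ext1 x
    simp only [Function.comp_apply, AdicCompletion.congr_apply, AdicCompletion.map_of]
    simp
  rw [h]
  exact (AdicCompletion.congr I e).bijective.comp
    ((AdicCompletion.of_bijective I M).comp e.symm.bijective)

theorem isAdicComplete_pi {M : Type v} [AddCommGroup M] [Module A M] [IsAdicComplete I M]
    (ι : Type w) [Finite ι] : IsAdicComplete I (ι → M) := by
  classical
  cases nonempty_fintype ι
  rw [← AdicCompletion.of_bijective_iff]
  have h : ⇑(AdicCompletion.piEquivOfFintype I (fun _ : ι => M)) ∘ ⇑(AdicCompletion.of I (ι → M)) =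
      fun x j => AdicCompletion.of I M (x j) := by
    ext x j n
    rfl
  have h2 : Function.Bijective (fun (x : ι → M) (j : ι) => AdicCompletion.of I M (x j)) := by
    have := AdicCompletion.of_bijective I M
    constructor
    · intro x y hxy
      ext1 j
      exact this.1 (congrFun hxy j)
    · intro y
      choose x hx using fun j => this.2 (y j)
      exact ⟨x, funext hx⟩
  rw [← h] at h2
  exact (Function.Bijective.of_comp_iff' (AdicCompletion.piEquivOfFintype I _).bijective _).mp h2

/-- If `P` is complete, `N` separated and `φ : P → N` satisfies an Artin-Rees condition, then the range of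
`φ` is closed. -/
theorem mem_range_of_forall {P : Type v} {N : Type w} [AddCommGroup P] [Module A P]
    [AddCommGroup N] [Module A N] [IsPrecomplete I P] [IsHausdorff I N] (φ : P →ₗ[A] N) (c : ℕ)
    (hAR : ∀ (n : ℕ) (p : P), φ p ∈ (I ^ (n + c) • ⊤ : Submodule A N) →
      ∃ q ∈ (I ^ n • ⊤ : Submodule A P), φ q = φ p) (x : N)
    (hx : ∀ n : ℕ, ∃ p, x - φ p ∈ (I ^ n • ⊤ : Submodule A N)) : ∃ p, φ p = x := by
  choose p hp using hx
  have hstep : ∀ (n : ℕ) (a : P), φ a = φ (p (n + c)) →
      ∃ b : P, φ b = φ (p (n + 1 + c)) ∧ b - a ∈ (I ^ n • ⊤ : Submodule A P) := by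
    intro n a ha
    obtain ⟨q, hq, hqa⟩ := hAR n (p (n + 1 + c) - a) (by
      rw [map_sub, ha]
      have h1 := hp (n + c)
      have h2 := hp (n + 1 + c)
      have h3 : (I ^ (n + 1 + c) • ⊤ : Submodule A N) ≤ I ^ (n + c) • ⊤ :=
        Submodule.smul_mono_left (Ideal.pow_le_pow_right (by omega))
      have h4 := Submodule.sub_mem _ h1 (h3 h2)
      convert h4 using 1
      abel)
    refine ⟨a + q, ?_, by simpa using hq⟩
    rw [map_add, hqa, map_sub, add_sub_cancel]
  choose! g hg1 hg2 using hstep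
  let f : ℕ → P := fun n => Nat.rec (p (0 + c)) (fun n a => g n a) n
  have hf : ∀ n, φ (f n) = φ (p (n + c)) := by
    intro n
    induction n with
    | zero => rfl
    | succ n ih => exact hg1 n (f n) ih
  have hf2 : ∀ n, f (n + 1) - f n ∈ (I ^ n • ⊤ : Submodule A P) := fun n => hg2 n (f n) (hf n)
  have hcau : ∀ {m n : ℕ}, m ≤ n → f m ≡ f n [SMOD (I ^ m • ⊤ : Submodule A P)] := by
    intro m n hmn
    induction n, hmn using Nat.le_induction with
    | base => rfl
    | succ n hmn ih =>
      refine ih.trans ?_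
      rw [SModEq.sub_mem, ← neg_mem_iff, neg_sub]
      exact Submodule.smul_mono_left (Ideal.pow_le_pow_right hmn) (hf2 n)
  obtain ⟨L, hL⟩ := IsPrecomplete.prec (inferInstance : IsPrecomplete I P) hcau
  refine ⟨L, ?_⟩
  rw [← sub_eq_zero]
  refine IsHausdorff.haus (inferInstance : IsHausdorff I N) _ fun n => ?_
  rw [SModEq.zero]
  have h1 : φ (f n) - φ L ∈ (I ^ n • ⊤ : Submodule A N) := by
    rw [← map_sub]
    have := Submodule.mem_map_of_mem (f := φ) (SModEq.sub_mem.mp (hL n))
    rw [Submodule.map_smul''] at this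
    exact (smul_mono_right (I ^ n) le_top : I ^ n • Submodule.map φ ⊤ ≤ I ^ n • ⊤) this
  have h2 : x - φ (f n) ∈ (I ^ n • ⊤ : Submodule A N) := by
    rw [hf]
    exact Submodule.smul_mono_left (Ideal.pow_le_pow_right (by omega)) (hp (n + c))
  have h3 := Submodule.neg_mem _ (Submodule.add_mem _ h1 h2)
  convert h3 using 1
  abel

end Complete

section Flat

variable {A : Type u} [CommRing A] (I : Ideal A) (M : Type v) [AddCommGroup M] [Module A M]

/-- Tensoring with `M` preserves injections between modules killed by powers of `I`. -/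
def FlatMod : Prop :=
  ∀ (n : ℕ) (X Y : Type u) [AddCommGroup X] [Module A X] [AddCommGroup Y] [Module A Y]
    (f : X →ₗ[A] Y), Injective f → (∀ r ∈ I ^ n, ∀ y : Y, r • y = 0) → Injective (f.rTensor M)

variable {I M}

/-- elements of `I^n (X ⊗ M)` map to zero in `Y ⊗ M` if `Y` is killed by `I^n`. -/
theorem rTensor_eq_zero_of_mem_smul_top {X : Type w} {Y : Type w'} [AddCommGroup X] [Module A X]
    [AddCommGroup Y] [Module A Y] (J : Ideal A) (f : X →ₗ[A] Y) (hY : ∀ r ∈ J, ∀ y : Y, r • y = 0)
    {x : X ⊗[A] M} (hx : x ∈ (J • ⊤ : Submodule A (X ⊗[A] M))) : f.rTensor M x = 0 := by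
  refine Submodule.smul_induction_on hx ?_ ?_
  · intro r hr z _
    rw [map_smul]
    generalize f.rTensor M z = z'
    induction z' using TensorProduct.induction_on with
    | zero => simp
    | add a b ha hb => rw [smul_add, ha, hb, add_zero]
    | tmul a b => rw [TensorProduct.smul_tmul', hY r hr, TensorProduct.zero_tmul]
  · intro a b ha hb
    rw [map_add, ha, hb, add_zero]

/-- Elements of `X ⊗ M` vanishing in `(X/JX) ⊗ M` are in `J (X ⊗ M)`. -/
theorem mem_smul_top_of_rTensor_mkQ_eq_zero {X : Type w} [AddCommGroup X] [Module A X]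
    (J : Ideal A) {x : X ⊗[A] M} (hx : (J • ⊤ : Submodule A X).mkQ.rTensor M x = 0) :
    x ∈ (J • ⊤ : Submodule A (X ⊗[A] M)) := by
  have hex := rTensor_exact M (LinearMap.exact_subtype_mkQ (J • ⊤ : Submodule A X))
    (Submodule.mkQ_surjective _)
  obtain ⟨y, rfl⟩ := (hex x).mp hx
  clear hx
  induction y using TensorProduct.induction_on with
  | zero => simp
  | add a b ha hb => rw [map_add]; exact Submodule.add_mem _ ha hb
  | tmul a m =>
    obtain ⟨a, ha⟩ := a
    rw [LinearMap.rTensor_tmul, Submodule.subtype_apply]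
    change a ⊗ₜ[A] m ∈ _
    refine Submodule.smul_induction_on ha ?_ ?_
    · intro r hr z _
      rw [← TensorProduct.smul_tmul']
      exact Submodule.smul_mem_smul hr trivial
    · intro a b ha hb
      rw [TensorProduct.add_tmul]
      exact Submodule.add_mem _ ha hb

/-- Artin-Rees for tensor products with `M`. -/
theorem exists_artinRees [IsNoetherianRing A] (H : FlatMod I M) {F : Type u} [AddCommGroup F]
    [Module A F] [Module.Finite A F] (K : Submodule A F) :
    ∃ c : ℕ, ∀ (n : ℕ) (y : K ⊗[A] M),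
      K.subtype.rTensor M y ∈ (I ^ (n + c) • ⊤ : Submodule A (F ⊗[A] M)) →
      y ∈ (I ^ n • ⊤ : Submodule A (K ⊗[A] M)) := by
  obtain ⟨c, hc⟩ := Ideal.exists_pow_inf_eq_pow_smul I K
  refine ⟨c, fun n y hy => ?_⟩
  have hle : (I ^ (n + c) • ⊤ : Submodule A F).comap K.subtype ≤
      (I ^ n • ⊤ : Submodule A K) := by
    rintro ⟨k, hk⟩ hk'
    have h1 : k ∈ (I ^ (n + c) • ⊤ ⊓ K : Submodule A F) := ⟨hk', hk⟩
    rw [hc (n + c) (by omega), Nat.add_sub_cancel] at h1
    have h2 : k ∈ I ^ n • K :=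
      (smul_mono_right (I ^ n) inf_le_right : I ^ n • (I ^ c • ⊤ ⊓ K) ≤ I ^ n • K) h1
    have h3 : (I ^ n • K : Submodule A F) = Submodule.map K.subtype (I ^ n • ⊤) := by
      rw [Submodule.map_smul'']
      simp
    rw [h3] at h2
    obtain ⟨k', hk1, hk2⟩ := h2
    have : k' = ⟨k, hk⟩ := Subtype.ext hk2
    rw [← this]
    exact hk1
  let u : (K ⧸ (I ^ (n + c) • ⊤ : Submodule A F).comap K.subtype) →ₗ[A]
      (F ⧸ (I ^ (n + c) • ⊤ : Submodule A F)) := Submodule.mapQ _ _ K.subtype le_rfl
  have hu : Injective u := by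
    rw [← LinearMap.ker_eq_bot, Submodule.ker_mapQ]
    simp
  have hkill : ∀ r ∈ I ^ (n + c), ∀ y : F ⧸ (I ^ (n + c) • ⊤ : Submodule A F), r • y = 0 := by
    intro r hr y
    obtain ⟨y, rfl⟩ := Submodule.mkQ_surjective _ y
    rw [← map_smul, Submodule.mkQ_apply, Submodule.Quotient.mk_eq_zero]
    exact Submodule.smul_mem_smul hr trivial
  have h1 := H (n + c) _ _ u hu hkill
  apply mem_smul_top_of_rTensor_mkQ_eq_zero
  have h2 : ((I ^ (n + c) • ⊤ : Submodule A F).comap K.subtype).mkQ.rTensor M y = 0 := by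
    apply h1
    rw [map_zero, ← LinearMap.comp_apply, ← LinearMap.rTensor_comp]
    have h3 : u ∘ₗ ((I ^ (n + c) • ⊤ : Submodule A F).comap K.subtype).mkQ =
        (I ^ (n + c) • ⊤ : Submodule A F).mkQ ∘ₗ K.subtype := by
      ext x
      rfl
    rw [h3, LinearMap.rTensor_comp, LinearMap.comp_apply]
    exact rTensor_eq_zero_of_mem_smul_top (I ^ (n + c)) _ hkill hy
  have h4 : (I ^ n • ⊤ : Submodule A K).mkQ = (Submodule.factor hle) ∘ₗ
      ((I ^ (n + c) • ⊤ : Submodule A F).comap K.subtype).mkQ := by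
    ext x
    rfl
  rw [h4, LinearMap.rTensor_comp, LinearMap.comp_apply, h2, map_zero]

/-- A surjection `p : X → Y` maps `J X ⊗ M` onto `J (Y ⊗ M)`. -/
theorem exists_lift_smul_top {X : Type w} {Y : Type w'} [AddCommGroup X] [Module A X]
    [AddCommGroup Y] [Module A Y] (J : Ideal A) (p : X →ₗ[A] Y) (hp : Surjective p)
    {y : Y} (hy : y ∈ (J • ⊤ : Submodule A Y)) : ∃ x ∈ (J • ⊤ : Submodule A X), p x = y := by
  have : (J • ⊤ : Submodule A Y) = Submodule.map p (J • ⊤) := by
    rw [Submodule.map_smul'', Submodule.map_top, LinearMap.range_eq_top.mpr hp]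
  rw [this] at hy
  exact hy

theorem isAdicComplete_pi_tensor (I : Ideal A) (M : Type v) [AddCommGroup M] [Module A M]
    [IsAdicComplete I M] (m : ℕ) : IsAdicComplete I ((Fin m → A) ⊗[A] M) := by
  have := isAdicComplete_pi I (M := M) (Fin m)
  exact isAdicComplete_congr I ((TensorProduct.comm A (Fin m → A) M).trans
    (TensorProduct.piScalarRight A A M (Fin m))).symm

/-- right exactness for a presentation. -/
theorem exact_rTensor_presentation {F J G : Type u} [AddCommGroup J]
   [Module A J] [AddCommGroup F] [Module A F] [AddCommGroup G] [Module A G] (p : F →ₗ[A] J) (hp : Surjective p)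
   (k : G →ₗ[A] LinearMap.ker p) (hk : Surjective k) :
   Exact (((LinearMap.ker p).subtype ∘ₗ k).rTensor M) (p.rTensor M) := by
    have : Exact ((LinearMap.ker p).subtype ∘ₗ k) p := by
      intro x
      constructor
      · intro hx
        obtain ⟨y, hy⟩ := hk ⟨x, hx⟩
        exact ⟨y, by simp [hy]⟩
      · rintro ⟨y, rfl⟩
        exact (k y).2
    exact rTensor_exact M this hp

/-- If `p z = 0` up to every `I^n` then `p z = 0`. -/
theorem rTensor_eq_zero_of_forall_mem {F J G : Type u} [AddCommGroup J]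
   [Module A J] [AddCommGroup F] [Module A F] [AddCommGroup G] [Module A G] (p : F →ₗ[A] J) (hp : Surjective p)
   (k : G →ₗ[A] LinearMap.ker p) (hk : Surjective k) (c₂ : ℕ)
   [IsHausdorff I (F ⊗[A] M)] [IsPrecomplete I (G ⊗[A] M)]
   (hc₂ : ∀ (n : ℕ) (y : LinearMap.ker p ⊗[A] M),
      (LinearMap.ker p).subtype.rTensor M y ∈ (I ^ (n + c₂) • ⊤ : Submodule A (F ⊗[A] M)) →
      y ∈ (I ^ n • ⊤ : Submodule A (LinearMap.ker p ⊗[A] M))) 
   (x : F ⊗[A] M) 
   (hzn : ∀ n : ℕ, p.rTensor M x ∈ (I ^ n • ⊤ : Submodule A (J ⊗[A] M))) : p.rTensor M x = 0 := by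
  have hex := exact_rTensor_presentation (M := M) p hp k hk
  have hx : ∀ n : ℕ, ∃ q, x - ((LinearMap.ker p).subtype ∘ₗ k).rTensor M q ∈ (I ^ n • ⊤ : Submodule A (F ⊗[A] M)) := by
    intro n
    obtain ⟨x', hx', hxx'⟩ := exists_lift_smul_top (I ^ n) (p.rTensor M)
      (LinearMap.rTensor_surjective M hp) (hzn n)
    have h3 : p.rTensor M (x - x') = 0 := by rw [map_sub, hxx', sub_self]
    obtain ⟨q, hq⟩ := (hex _).mp h3
    refine ⟨q, ?_⟩
    rw [hq, sub_sub_cancel]
    exact hx'
  obtain ⟨q, hq⟩ := mem_range_of_forall I (((LinearMap.ker p).subtype ∘ₗ k).rTensor M) c₂ (fun n q hq => by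
    have h3 : k.rTensor M q ∈ (I ^ n • ⊤ : Submodule A (LinearMap.ker p ⊗[A] M)) := by
      apply hc₂
      rw [← LinearMap.comp_apply, ← LinearMap.rTensor_comp]
      exact hq
    obtain ⟨q', hq', hqq'⟩ := exists_lift_smul_top (I ^ n) (k.rTensor M)
      (LinearMap.rTensor_surjective M hk) h3
    refine ⟨q', hq', ?_⟩
    rw [LinearMap.rTensor_comp, LinearMap.comp_apply, LinearMap.comp_apply, hqq']) x hx
  exact (hex x).mpr ⟨q, hq⟩

/-- Stacks 0912 for complete modules. -/
theorem flat_of_isAdicComplete [IsNoetherianRing A] [IsAdicComplete I M] (H : FlatMod I M) :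
    Module.Flat A M := by
  rw [Module.Flat.iff_rTensor_injective']
  intro J
  obtain ⟨r, p, hp⟩ := Module.Finite.exists_fin' A J
  obtain ⟨s, k, hk⟩ := Module.Finite.exists_fin' A (LinearMap.ker p)
  obtain ⟨c₁, hc₁⟩ := exists_artinRees H J
  obtain ⟨c₂, hc₂⟩ := exists_artinRees H (LinearMap.ker p)
  have h1 := (isAdicComplete_pi_tensor I M r).toIsHausdorff
  have h2 := (isAdicComplete_pi_tensor I M s).toIsPrecomplete
  rw [injective_iff_map_eq_zero]
  intro z hz
  obtain ⟨x, rfl⟩ := LinearMap.rTensor_surjective M hp z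
  exact rTensor_eq_zero_of_forall_mem (I := I) p hp k hk c₂ hc₂ x fun n =>
    hc₁ n _ (by rw [hz]; exact Submodule.zero_mem _)

end Flat

end Groth.Agent.CalgA.FlatLim
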