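import Groth.Agent.CalgA.FlatLim
import Groth.Agent.Flat2D.NilpFlat
import Mathlib.RingTheory.AdicCompletion.AsTensorProduct

/-!
# Flatness of adic completions

Applications of `FlatLim.flat_of_isAdicComplete` to adic completions of modules.
-/

set_option autoImplicit false
universe u v w w'

open TensorProduct Function

namespace Groth.Agent.CalgA.FlatLim2

open FlatLim

variable {A : Type u} [CommRing A]

/-- Tensoring a module killed by `J` with a surjection with kernel in `JM` gives a bijection. -/
theorem lTensor_bijective_of_ker_le {M : Type v} {N : Type w} [AddCommGroup M] [Module A M]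
    [AddCommGroup N] [Module A N] (J : Ideal A) (f : M →ₗ[A] N) (hf : Surjective f)
    (hk : LinearMap.ker f ≤ J • ⊤) {Y : Type w'} [AddCommGroup Y] [Module A Y]
    (hY : ∀ r ∈ J, ∀ y : Y, r • y = 0) : Bijective (f.lTensor Y) := by
  refine ⟨?_, LinearMap.lTensor_surjective Y hf⟩
  rw [injective_iff_map_eq_zero]
  intro z hz
  have hex := lTensor_exact Y (LinearMap.exact_subtype_ker_map f) hf
  obtain ⟨x, rfl⟩ := (hex z).mp hz
  clear hz
  induction x using TensorProduct.induction_on with
  | zero => simp
  | add a b ha hb => rw [map_add, ha, hb, add_zero]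
  | tmul y m =>
    obtain ⟨m, hm⟩ := m
    rw [LinearMap.lTensor_tmul, Submodule.subtype_apply]
    change y ⊗ₜ[A] m = 0
    refine Submodule.smul_induction_on (hk hm) ?_ ?_
    · intro r hr z _
      rw [TensorProduct.tmul_smul, TensorProduct.smul_tmul', hY r hr, TensorProduct.zero_tmul]
    · intro a b ha hb
      rw [TensorProduct.tmul_add, ha, hb, add_zero]

/-- Tensoring a module killed by `I^n` does not see the difference between `M` and its completion. -/
theorem lTensor_of_bijective (I : Ideal A) (hI : I.FG) (M : Type v) [AddCommGroup M] [Module A M]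
    {Y : Type w'} [AddCommGroup Y] [Module A Y] (n : ℕ) (hY : ∀ r ∈ I ^ n, ∀ y : Y, r • y = 0) :
    Bijective ((AdicCompletion.of I M).lTensor Y) := by
  have h1 : Bijective ((AdicCompletion.eval I M n).lTensor Y) :=
    lTensor_bijective_of_ker_le (I ^ n) _ (AdicCompletion.eval_surjective I M n)
      (AdicCompletion.pow_smul_top_eq_ker_eval hI).ge hY
  have h2 : Bijective ((I ^ n • ⊤ : Submodule A M).mkQ.lTensor Y) :=
    lTensor_bijective_of_ker_le (I ^ n) _ (Submodule.mkQ_surjective _)
      (Submodule.ker_mkQ _).le hY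
  have h3 : (I ^ n • ⊤ : Submodule A M).mkQ.lTensor Y =
      (AdicCompletion.eval I M n).lTensor Y ∘ₗ (AdicCompletion.of I M).lTensor Y := by
    rw [← LinearMap.lTensor_comp, AdicCompletion.eval_comp_of]
  rw [h3] at h2
  exact (Function.Bijective.of_comp_iff' h1 _).mp h2

/-- Flatness modulo powers of `I` passes to the completion. -/
theorem flatMod_adicCompletion {I : Ideal A} (hI : I.FG) {M : Type v} [AddCommGroup M]
    [Module A M] (H : FlatMod I M) : FlatMod I (AdicCompletion I M) := by
  intro n X Y _ _ _ _ f hf hY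
  have hX : ∀ r ∈ I ^ n, ∀ x : X, r • x = 0 := fun r hr x => hf (by
    rw [map_smul, hY r hr, map_zero])
  have h1 := lTensor_of_bijective I hI M n hX
  have h2 := lTensor_of_bijective I hI M n hY
  have h3 := H n X Y f hf hY
  have h4 : f.rTensor (AdicCompletion I M) ∘ₗ (AdicCompletion.of I M).lTensor X =
      (AdicCompletion.of I M).lTensor Y ∘ₗ f.rTensor M := by
    rw [LinearMap.rTensor_comp_lTensor, LinearMap.lTensor_comp_rTensor]
  intro x y hxy
  obtain ⟨x, rfl⟩ := h1.2 x
  obtain ⟨y, rfl⟩ := h1.2 y
  have h5 : (AdicCompletion.of I M).lTensor Y (f.rTensor M x) =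
      (AdicCompletion.of I M).lTensor Y (f.rTensor M y) := by
    rw [← LinearMap.comp_apply, ← LinearMap.comp_apply, ← h4]
    exact hxy
  rw [h3 (h2.1 h5)]

theorem flatMod_of_flat (I : Ideal A) (M : Type v) [AddCommGroup M] [Module A M]
    [Module.Flat A M] : FlatMod I M := fun _ _ _ _ _ _ _ f hf _ =>
  Module.Flat.rTensor_preserves_injective_linearMap f hf

/-- The completion of a flat module over a Noetherian ring is flat. -/
theorem flat_adicCompletion [IsNoetherianRing A] (I : Ideal A) (M : Type v) [AddCommGroup M]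
    [Module A M] [Module.Flat A M] : Module.Flat A (AdicCompletion I M) := by
  have hI : I.FG := IsNoetherian.noetherian I
  have := AdicCompletion.isAdicComplete (M := M) hI
  exact flat_of_isAdicComplete (I := I) (flatMod_adicCompletion hI (flatMod_of_flat I M))

/-- Local criterion: if `I ⊗ M → M` is injective and `M/IM` is flat over `A/I` then tensoring with `M`
preserves injections of modules killed by powers of `I`. -/
theorem flatMod_of_torZ (I : Ideal A) (M : Type v) [AddCommGroup M] [Module A M]
    [Module.Flat (A ⧸ I) ((A ⧸ I) ⊗[A] M)] (h : Injective (I.subtype.rTensor M)) :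
    FlatMod I M := by
  intro n X Y _ _ _ _ f hf hY
  have h1 := Flat2D.NilpFlat.torZ_of_killed_pow I h n (Y ⧸ LinearMap.range f) (by
    intro r hr y
    obtain ⟨y, rfl⟩ := Submodule.mkQ_surjective _ y
    rw [← map_smul, hY r hr, map_zero])
  exact h1 X Y f (LinearMap.range f).mkQ hf (LinearMap.exact_map_mkQ_range f)
    (Submodule.mkQ_surjective _)

/-- Flatness over a completed ring. -/
theorem flatMod_of_algebra {I : Ideal A} {S : Type u} [CommRing S] [Algebra A S] {N : Type v}
    [AddCommGroup N] [Module A N] [Module S N] [IsScalarTower A S N]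
    (hS : ∀ n : ℕ, ∀ s : S, ∃ a : A, s - algebraMap A S a ∈ (I.map (algebraMap A S)) ^ n)
    (H : FlatMod I N) : FlatMod (I.map (algebraMap A S)) N := by
  intro n X Y _ _ _ _ f hf hY
  have hX : ∀ r ∈ I.map (algebraMap A S) ^ n, ∀ x : X, r • x = 0 := fun r hr x => hf (by
    rw [map_smul, hY r hr, map_zero])
  let _ : Module A X := Module.compHom X (algebraMap A S)
  let _ : Module A Y := Module.compHom Y (algebraMap A S)
  have : IsScalarTower A S X := ⟨fun a s x => by
    change (a • s) • x = algebraMap A S a • s • x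
    rw [Algebra.smul_def, mul_smul]⟩
  have : IsScalarTower A S Y := ⟨fun a s x => by
    change (a • s) • x = algebraMap A S a • s • x
    rw [Algebra.smul_def, mul_smul]⟩
  have key : ∀ (Z : Type u) [AddCommGroup Z] [Module S Z] [Module A Z] [IsScalarTower A S Z],
      (∀ r ∈ I.map (algebraMap A S) ^ n, ∀ z : Z, r • z = 0) →
      TensorProduct.CompatibleSMul A S Z N := by
    intro Z _ _ _ _ hZ
    refine ⟨fun s z m => ?_⟩
    obtain ⟨a, ha⟩ := hS n s
    have h0 : ∀ t ∈ I.map (algebraMap A S) ^ n, z ⊗ₜ[A] (t • m) = 0 := by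
      intro t ht
      rw [← Ideal.map_pow] at ht
      refine Submodule.span_induction (p := fun t _ => ∀ m : N, z ⊗ₜ[A] (t • m) = 0)
        ?_ ?_ ?_ ?_ ht m
      · rintro _ ⟨b, hb, rfl⟩ m
        rw [algebraMap_smul, TensorProduct.tmul_smul, TensorProduct.smul_tmul',
          ← algebraMap_smul S b z]
        rw [hZ _ (by rw [← Ideal.map_pow]; exact Ideal.mem_map_of_mem _ hb),
          TensorProduct.zero_tmul]
      · intro m
        rw [zero_smul, TensorProduct.tmul_zero]
      · intro x y _ _ hx hy m
        rw [add_smul, TensorProduct.tmul_add, hx, hy, add_zero]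
      · intro c x _ hx m
        rw [smul_eq_mul, mul_comm, mul_smul, hx]
    have h1 : s • z = a • z := by
      rw [← algebraMap_smul S a z, ← sub_eq_zero, ← sub_smul]
      exact hZ _ ha z
    have h2 : z ⊗ₜ[A] (s • m) = z ⊗ₜ[A] (a • m) := by
      rw [← algebraMap_smul S a m, ← sub_eq_zero, ← TensorProduct.tmul_sub, ← sub_smul]
      exact h0 _ ha
    rw [h1, h2, TensorProduct.smul_tmul]
  have hYA : ∀ r ∈ I ^ n, ∀ y : Y, r • y = 0 := by
    intro r hr y
    rw [← algebraMap_smul S r y]
    exact hY _ (by rw [← Ideal.map_pow]; exact Ideal.mem_map_of_mem _ hr) y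
  have h1 := H n X Y (f.restrictScalars A) hf hYA
  have := key X hX
  have := key Y hY
  let eX := TensorProduct.equivOfCompatibleSMul A S A X N
  let eY := TensorProduct.equivOfCompatibleSMul A S A Y N
  have h2 : ∀ x : X ⊗[S] N, eY (f.rTensor N x) = (f.restrictScalars A).rTensor N (eX x) := by
    intro x
    induction x using TensorProduct.induction_on with
    | zero => simp
    | add a b ha hb => rw [map_add, map_add, map_add, map_add, ha, hb]
    | tmul a b => rfl
  intro x y hxy
  apply eX.injective
  apply h1
  rw [← h2, ← h2, hxy]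

/-- Stacks 0AGW, relative to the Noetherianity of the completed ring. -/
theorem flat_adicCompletion_of_torZ (I : Ideal A) (hI : I.FG)
    [IsNoetherianRing (AdicCompletion I A)] (M : Type u) [AddCommGroup M] [Module A M]
    [Module.Flat (A ⧸ I) ((A ⧸ I) ⊗[A] M)] (h : Injective (I.subtype.rTensor M)) :
    Module.Flat (AdicCompletion I A) (AdicCompletion I M) := by
  have h1 : IsAdicComplete I (AdicCompletion I M) := AdicCompletion.isAdicComplete hI
  have h2 : IsAdicComplete (I.map (algebraMap A (AdicCompletion I A))) (AdicCompletion I M) :=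
    (IsAdicComplete.map_algebraMap_iff I (AdicCompletion I M)).mpr h1
  refine flat_of_isAdicComplete (I := I.map (algebraMap A (AdicCompletion I A)))
    (flatMod_of_algebra ?_ (flatMod_adicCompletion hI (flatMod_of_torZ I M h)))
  intro n s
  obtain ⟨a, ha⟩ := Submodule.mkQ_surjective _ (AdicCompletion.eval I A n s)
  refine ⟨a, ?_⟩
  have h3 : s - algebraMap A (AdicCompletion I A) a ∈
      LinearMap.ker (AdicCompletion.eval I A n) := by
    rw [LinearMap.mem_ker, map_sub, ← ha, sub_eq_zero]
    rfl
  rw [← AdicCompletion.pow_smul_top_eq_ker_eval hI, Ideal.smul_top_eq_map,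
    Ideal.map_pow] at h3
  exact h3

end Groth.Agent.CalgA.FlatLim2
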