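import Mathlib.LinearAlgebra.TensorProduct.Pi
import Mathlib.LinearAlgebra.TensorProduct.Finiteness
import Mathlib.LinearAlgebra.TensorProduct.Vanishing
import Mathlib.LinearAlgebra.TensorProduct.RightExactness
import Mathlib.Algebra.Module.FinitePresentation
import Mathlib.LinearAlgebra.Finsupp.LinearCombination

/-!
# Mittag-Leffler modules, part 1: elementary facts on tensor products, products and finitely
presented modules.
-/

set_option autoImplicit false
universe u v w x

open TensorProduct

namespace Groth.Agent.CalgA.ML1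

/-- Elements of the kernel of `A ⊗ N → B ⊗ N` for a surjection `A → B` come from `ker ⊗ N`. -/
theorem exists_ker_rTensor {R : Type u} [CommRing R] {A : Type v} {B : Type w} [AddCommGroup A]
    [Module R A] [AddCommGroup B] [Module R B] (φ : A →ₗ[R] B) (hφ : Function.Surjective φ)
    {N : Type x} [AddCommGroup N] [Module R N] (y : A ⊗[R] N) (hy : φ.rTensor N y = 0) :
    ∃ z : (LinearMap.ker φ) ⊗[R] N, (LinearMap.ker φ).subtype.rTensor N z = y :=
  ((rTensor_exact N (LinearMap.exact_subtype_ker_map φ) hφ) y).mp hy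

/-- If `f : P → M` with `P` finitely presented and `x ∈ P ⊗ N` dies in `M ⊗ N`, then `f` factors
through a finitely presented `P'` such that `x` already dies in `P' ⊗ N`. -/
theorem exists_fp_of_rTensor_eq_zero {R : Type u} [CommRing R] {M : Type v} [AddCommGroup M]
    [Module R M] {P : Type v} [AddCommGroup P] [Module R P] [Module.FinitePresentation R P]
    (f : P →ₗ[R] M) {N : Type w} [AddCommGroup N] [Module R N] (x : P ⊗[R] N)
    (hx : f.rTensor N x = 0) :
    ∃ (P' : Type (max u v)) (_ : AddCommGroup P') (_ : Module R P') (g : P →ₗ[R] P') (h : P' →ₗ[R] M),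
      Module.FinitePresentation R P' ∧ h ∘ₗ g = f ∧ g.rTensor N x = 0 := by
  classical
  let π : (M →₀ R) →ₗ[R] M := Finsupp.linearCombination R (fun m : M => m)
  have hπ : Function.Surjective π := by
    intro m
    exact ⟨Finsupp.single m 1, by simp [π]⟩
  let φ : (P × (M →₀ R)) →ₗ[R] M := f.coprod π
  have hφ : Function.Surjective φ := by
    intro m
    obtain ⟨c, hc⟩ := hπ m
    exact ⟨(0, c), by simp [φ, hc]⟩
  have hy : φ.rTensor N ((LinearMap.inl R P (M →₀ R)).rTensor N x) = 0 := by
    rw [← LinearMap.comp_apply, ← LinearMap.rTensor_comp, LinearMap.coprod_inl]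
    exact hx
  obtain ⟨z, hz⟩ := exists_ker_rTensor φ hφ _ hy
  obtain ⟨n, k, t, hkt⟩ := TensorProduct.exists_sum_tmul_eq z
  -- the finite set of indices
  let s : Finset M := Finset.univ.biUnion (fun j : Fin n => ((k j).1.2 : M →₀ R).support)
  let r : (M →₀ R) →ₗ[R] (s → R) := LinearMap.pi (fun m => Finsupp.lapply (m : M))
  let π₀ : (s → R) →ₗ[R] M := Fintype.linearCombination R (fun m : s => (m : M))
  have hr : ∀ c : (M →₀ R), c.support ⊆ s → π₀ (r c) = π c := by
    intro c hc
    simp only [π₀, π, Fintype.linearCombination_apply, Finsupp.linearCombination_apply, r,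
      LinearMap.pi_apply, Finsupp.lapply_apply]
    rw [Finsupp.sum_of_support_subset c hc _ (by simp)]
    exact Finset.sum_coe_sort s (fun m => c m • m)
  let ρ : (P × (M →₀ R)) →ₗ[R] (P × (s → R)) := LinearMap.prodMap LinearMap.id r
  let φ₀ : (P × (s → R)) →ₗ[R] M := f.coprod π₀
  let K₀ : Submodule R (P × (s → R)) := Submodule.span R (Set.range (fun j : Fin n => ρ (k j).1))
  have hK₀ : K₀ ≤ LinearMap.ker φ₀ := by
    rw [Submodule.span_le]
    rintro _ ⟨j, rfl⟩
    have hj : φ (k j).1 = 0 := (k j).2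
    have hsub : ((k j).1.2 : M →₀ R).support ⊆ s :=
      Finset.subset_biUnion_of_mem (fun j : Fin n => ((k j).1.2 : M →₀ R).support) (Finset.mem_univ j)
    simp only [SetLike.mem_coe, LinearMap.mem_ker]
    have h1 : φ₀ (ρ (k j).1) = f (k j).1.1 + π₀ (r (k j).1.2) := by
      simp [φ₀, ρ]
    have h2 : φ (k j).1 = f (k j).1.1 + π (k j).1.2 := rfl
    rw [h1, hr _ hsub, ← h2, hj]
  refine ⟨(P × (s → R)) ⧸ K₀, inferInstance, inferInstance, K₀.mkQ ∘ₗ LinearMap.inl R P (s → R),
    K₀.liftQ φ₀ hK₀, ?_, ?_, ?_⟩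
  · refine Module.finitePresentation_of_surjective K₀.mkQ K₀.mkQ_surjective ?_
    rw [Submodule.ker_mkQ]
    exact Submodule.fg_span (Set.finite_range _)
  · ext p
    simp [φ₀]
  · have h1 : (LinearMap.inl R P (s → R)).rTensor N x =
        ρ.rTensor N ((LinearMap.inl R P (M →₀ R)).rTensor N x) := by
      rw [← LinearMap.comp_apply, ← LinearMap.rTensor_comp]
      have : LinearMap.inl R P (s → R) = ρ ∘ₗ LinearMap.inl R P (M →₀ R) := by
        ext p <;> simp [ρ]
      rw [← this]
    rw [LinearMap.rTensor_comp, LinearMap.comp_apply, h1, ← hz, hkt]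
    simp only [map_sum, LinearMap.rTensor_tmul]
    refine Finset.sum_eq_zero (fun j _ => ?_)
    have : K₀.mkQ (ρ ((LinearMap.ker φ).subtype (k j))) = 0 := by
      rw [← LinearMap.mem_ker, Submodule.ker_mkQ]
      exact Submodule.subset_span ⟨j, rfl⟩
    rw [this, zero_tmul]

/-- Elements of `M ⊗ N` expressed through a finite generating family of `M`. -/
theorem exists_sum_tmul_of_span {R : Type u} [CommRing R] {M : Type v} [AddCommGroup M]
    [Module R M] {N : Type w} [AddCommGroup N] [Module R N] {n : ℕ} (m : Fin n → M)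
    (hm : Submodule.span R (Set.range m) = ⊤) (z : M ⊗[R] N) :
    ∃ q : Fin n → N, z = ∑ k, m k ⊗ₜ[R] q k := by
  induction z with
  | zero => exact ⟨0, by simp⟩
  | tmul p q =>
    obtain ⟨c, rfl⟩ := (Submodule.mem_span_range_iff_exists_fun R).mp
      (hm ▸ Submodule.mem_top : p ∈ Submodule.span R (Set.range m))
    refine ⟨fun k => c k • q, ?_⟩
    rw [sum_tmul]
    exact Finset.sum_congr rfl (fun k _ => smul_tmul _ _ _)
  | add x y hx hy =>
    obtain ⟨q, rfl⟩ := hx
    obtain ⟨q', rfl⟩ := hy
    exact ⟨q + q', by simp [tmul_add, Finset.sum_add_distrib]⟩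

/-- For a finite module `P`, the map `P ⊗ ∏ Qᵢ → ∏ (P ⊗ Qᵢ)` is surjective. -/
theorem piRightHom_surjective_of_finite {R : Type u} [CommRing R] (P : Type v) [AddCommGroup P]
    [Module R P] [Module.Finite R P] {ι : Type w} (Q : ι → Type x)
    [∀ i, AddCommGroup (Q i)] [∀ i, Module R (Q i)] :
    Function.Surjective (TensorProduct.piRightHom R R P Q) := by
  intro y
  obtain ⟨n, m, hm⟩ := Module.Finite.exists_fin (R := R) (M := P)
  choose q hq using fun i => exists_sum_tmul_of_span m hm (y i)
  refine ⟨∑ k, m k ⊗ₜ[R] (fun i => q i k), ?_⟩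
  ext i
  rw [map_sum, Finset.sum_apply, hq i]
  rfl

/-- For a finitely presented module `P`, the map `P ⊗ ∏ Qᵢ → ∏ (P ⊗ Qᵢ)` is injective. -/
theorem piRightHom_injective_of_fp {R : Type u} [CommRing R] (P : Type v) [AddCommGroup P]
    [Module R P] [Module.FinitePresentation R P] {ι : Type w} (Q : ι → Type x)
    [∀ i, AddCommGroup (Q i)] [∀ i, Module R (Q i)] :
    Function.Injective (TensorProduct.piRightHom R R P Q) := by
  classical
  rw [injective_iff_map_eq_zero]
  intro z hz
  obtain ⟨n, m, hm⟩ := Module.Finite.exists_fin (R := R) (M := P)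
  let f : (Fin n → R) →ₗ[R] P := Fintype.linearCombination R m
  have hf : Function.Surjective f := by
    rw [← LinearMap.range_eq_top, Fintype.range_linearCombination, hm]
  have hK : (LinearMap.ker f).FG := Module.FinitePresentation.fg_ker f hf
  obtain ⟨t, a, ha⟩ := Submodule.fg_iff_exists_fin_generating_family.mp hK
  obtain ⟨q, rfl⟩ := exists_sum_tmul_of_span m hm z
  have key : ∀ i, ∃ c : Fin t → Q i, ∀ k, q k i = ∑ l, a l k • c l := by
    intro i
    have h0 : ∑ k, m k ⊗ₜ[R] q k i = 0 := by
      have := congrFun hz i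
      rw [map_sum, Finset.sum_apply] at this
      exact this
    obtain ⟨s, b, y, hy, hb⟩ := TensorProduct.vanishesTrivially_of_sum_tmul_eq_zero R hm h0
    have hb' : ∀ j, ∃ d : Fin t → R, ∑ l, d l • a l = fun k => b k j := by
      intro j
      rw [← Submodule.mem_span_range_iff_exists_fun R, ha, LinearMap.mem_ker]
      exact hb j
    choose d hd using hb'
    refine ⟨fun l => ∑ j, d j l • y j, fun k => ?_⟩
    refine (hy k).trans ?_
    simp_rw [Finset.smul_sum]
    rw [Finset.sum_comm]
    refine Finset.sum_congr rfl (fun j _ => ?_)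
    have := congrFun (hd j) k
    simp only [Finset.sum_apply, Pi.smul_apply, smul_eq_mul] at this
    rw [← this, Finset.sum_smul]
    refine Finset.sum_congr rfl (fun l _ => ?_)
    rw [smul_smul, mul_comm]
  choose c hc using key
  have hq : ∀ k, q k = ∑ l, a l k • (fun i => c i l) := by
    intro k
    ext i
    rw [hc i k, Finset.sum_apply]
    rfl
  simp_rw [hq, tmul_sum, tmul_smul, smul_tmul']
  rw [Finset.sum_comm]
  simp_rw [← sum_tmul]
  refine Finset.sum_eq_zero (fun l _ => ?_)
  have : f (a l) = 0 := by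
    have : a l ∈ LinearMap.ker f := ha ▸ Submodule.subset_span ⟨l, rfl⟩
    exact this
  rw [show ∑ k, a l k • m k = f (a l) from rfl, this, zero_tmul]

end Groth.Agent.CalgA.ML1
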