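import Groth.Agent.CalgA.ML1

/-!
# Mittag-Leffler modules, part 2: Stacks 059K (finitely presented iff tensoring commutes with
products).
-/

set_option autoImplicit false
universe u v w x

open TensorProduct

namespace Groth.Agent.CalgA.ML2

open Groth.Agent.CalgA.ML1

/-- If every element of `M` is a combination of `k 0, ..., k (n-1)`, the module is finite. -/
theorem finite_of_forall_eq_sum (R : Type u) [CommRing R] (M : Type v) [AddCommGroup M] [Module R M]
    (n : ℕ) (k : Fin n → M) (q : Fin n → M → R) (h : ∀ m, m = ∑ j, q j m • k j) :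
    Module.Finite R M := by
  refine ⟨Submodule.fg_iff_exists_fin_generating_family.mpr ⟨n, k, ?_⟩⟩
  rw [eq_top_iff]
  intro m _
  rw [Submodule.mem_span_range_iff_exists_fun]
  exact ⟨fun j => q j m, (h m).symm⟩

/-- Naturality of `piRightHom` in the module. -/
theorem piRightHom_rTensor {R : Type u} [CommRing R] {A : Type v} {B : Type w} [AddCommGroup A]
    [Module R A] [AddCommGroup B] [Module R B] (f : A →ₗ[R] B) {ι : Type x} (Q : ι → Type x)
    [∀ i, AddCommGroup (Q i)] [∀ i, Module R (Q i)] (y : A ⊗[R] (∀ i, Q i)) :
    TensorProduct.piRightHom R R B Q (f.rTensor _ y) =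
      fun k => f.rTensor (Q k) (TensorProduct.piRightHom R R A Q y k) := by
  induction y with
  | zero => simp only [map_zero]; ext k; simp
  | tmul a b => rfl
  | add a b ha hb => rw [map_add, map_add, ha, hb, map_add]; ext k; simp

/-- Naturality of `piRightHom` in the family. -/
theorem piRightHom_lTensor {R : Type u} [CommRing R] {A : Type v} [AddCommGroup A]
    [Module R A] {ι : Type x} (Q : ι → Type x) (Q' : ι → Type x)
    [∀ i, AddCommGroup (Q i)] [∀ i, Module R (Q i)] [∀ i, AddCommGroup (Q' i)]
    [∀ i, Module R (Q' i)] (φ : ∀ i, Q i →ₗ[R] Q' i) (y : A ⊗[R] (∀ i, Q i)) :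
    TensorProduct.piRightHom R R A Q'
        ((LinearMap.pi (fun i => φ i ∘ₗ LinearMap.proj i)).lTensor A y) =
      fun k => (φ k).lTensor A (TensorProduct.piRightHom R R A Q y k) := by
  induction y with
  | zero => simp only [map_zero]; ext k; simp
  | tmul a b => rfl
  | add a b ha hb => rw [map_add, map_add, ha, hb, map_add]; ext k; simp

/-- Stacks 059J: if `M ⊗ R^M → M^M` is surjective then `M` is finite. -/
theorem finite_of_piRightHom_surjective (R : Type u) [CommRing R] (M : Type u)
    [AddCommGroup M] [Module R M]
    (h : Function.Surjective (TensorProduct.piRightHom R R M (fun _ : M => R))) :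
    Module.Finite R M := by
  obtain ⟨z, hz⟩ := h (fun m => m ⊗ₜ[R] (1 : R))
  obtain ⟨n, k, q, rfl⟩ := TensorProduct.exists_sum_tmul_eq z
  refine finite_of_forall_eq_sum R M n k q (fun m => ?_)
  have := congrArg (TensorProduct.rid R M) (congrFun hz m)
  rw [map_sum, Finset.sum_apply, map_sum] at this
  simpa using this.symm

/-- Stacks 059K, the nontrivial direction. -/
theorem fp_of_piRightHom_bijective (R : Type u) [CommRing R] (M : Type u)
    [AddCommGroup M] [Module R M]
    (h : ∀ (ι : Type u), Function.Bijective (TensorProduct.piRightHom R R M (fun _ : ι => R))) :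
    Module.FinitePresentation R M := by
  have hfin : Module.Finite R M := finite_of_piRightHom_surjective R M (h M).2
  obtain ⟨n, f, hf⟩ := Module.Finite.exists_fin' R M
  suffices hK : Module.Finite R (LinearMap.ker f) from
    Module.finitePresentation_of_surjective f hf (Module.Finite.iff_fg.mp hK)
  let K := LinearMap.ker f
  obtain ⟨y, hy⟩ := piRightHom_surjective_of_finite (Fin n → R) (fun _ : K => R)
    (fun k => (k : Fin n → R) ⊗ₜ[R] (1 : R))
  have hy0 : f.rTensor _ y = 0 := by
    apply (h K).1
    rw [piRightHom_rTensor, hy, map_zero]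
    ext k
    have : f (k : Fin n → R) = 0 := k.2
    simp [this]
  obtain ⟨z, rfl⟩ := exists_ker_rTensor f hf y hy0
  obtain ⟨m, k, q, rfl⟩ := TensorProduct.exists_sum_tmul_eq z
  refine finite_of_forall_eq_sum R K m k q (fun x => ?_)
  have := congrArg (TensorProduct.rid R (Fin n → R)) (congrFun hy x)
  rw [map_sum, map_sum, Finset.sum_apply, map_sum] at this
  apply Subtype.ext
  simpa using this.symm

end Groth.Agent.CalgA.ML2
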