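import Groth.Prelude.Def_Found
import Groth.Agent.CalgA.ML2
import Mathlib.LinearAlgebra.TensorProduct.Tower
import Mathlib.LinearAlgebra.TensorProduct.Associator
import Mathlib.RingTheory.Flat.FaithfullyFlat.Basic
import Mathlib.RingTheory.TensorProduct.Basic

/-!
# Mittag-Leffler modules, part 3: descent along faithfully flat ring maps (Stacks 05A5)
and base change of the product map.
-/

set_option autoImplicit false
universe u v w x

open TensorProduct

namespace Groth.Agent.CalgA.ML3

open Groth.Agent.CalgA.ML1 Groth.Agent.CalgA.ML2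

section

variable (R : Type u) [CommRing R] (S : Type u) [CommRing S] [Algebra R S]
  (M : Type u) [AddCommGroup M] [Module R M]

/-- `M ⊗[R] T ≃ (S ⊗[R] M) ⊗[S] T`, `m ⊗ t ↦ (1 ⊗ m) ⊗ t`. -/
noncomputable def psi (T : Type u) [AddCommGroup T] [Module R T] [Module S T]
    [IsScalarTower R S T] : M ⊗[R] T ≃ₗ[R] (S ⊗[R] M) ⊗[S] T :=
  (TensorProduct.comm R M T).trans
    (((TensorProduct.AlgebraTensorModule.cancelBaseChange R S S T M).symm.restrictScalars R).trans
      ((TensorProduct.comm S T (S ⊗[R] M)).restrictScalars R))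

theorem psi_tmul (T : Type u) [AddCommGroup T] [Module R T] [Module S T]
    [IsScalarTower R S T] (m : M) (t : T) : psi R S M T (m ⊗ₜ[R] t) = (1 ⊗ₜ[R] m) ⊗ₜ[S] t := by
  simp [psi]

/-- Injectivity of the product map over `S` for `S ⊗ M` gives injectivity over `R` for families of
`S`-modules. -/
theorem piRightHom_injective_of_baseChange {ι : Type u} (T : ι → Type u)
    [∀ i, AddCommGroup (T i)] [∀ i, Module R (T i)] [∀ i, Module S (T i)]
    [∀ i, IsScalarTower R S (T i)]
    (h : Function.Injective (TensorProduct.piRightHom S S (S ⊗[R] M) T)) :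
    Function.Injective (TensorProduct.piRightHom R R M T) := by
  have key : ∀ z : M ⊗[R] (∀ i, T i),
      TensorProduct.piRightHom S S (S ⊗[R] M) T (psi R S M (∀ i, T i) z) =
        fun i => psi R S M (T i) (TensorProduct.piRightHom R R M T z i) := by
    intro z
    induction z with
    | zero => simp only [map_zero]; ext i; simp
    | tmul m t => ext i; simp [psi_tmul]
    | add a b ha hb => rw [map_add, map_add, ha, hb, map_add]; ext k; simp
  rw [injective_iff_map_eq_zero]
  intro z hz
  apply (psi R S M (∀ i, T i)).injective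
  apply h
  rw [key, hz, map_zero, map_zero]
  ext i
  simp

end

/-- Stacks 05A5: the Mittag-Leffler property descends along faithfully flat ring maps. -/
theorem isMittagLeffler_of_faithfullyFlat (R : Type u) [CommRing R] (S : Type u)
    [CommRing S] [Algebra R S] [Module.FaithfullyFlat R S] (M : Type u) [AddCommGroup M] [Module R M]
    (h : CAlg.IsMittagLeffler S (S ⊗[R] M)) : CAlg.IsMittagLeffler R M := by
  classical
  intro ι Q _ _
  rw [injective_iff_map_eq_zero]
  intro z hz
  obtain ⟨n, m, q, rfl⟩ := TensorProduct.exists_sum_tmul_eq z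
  set f : (Fin n → R) →ₗ[R] M := Fintype.linearCombination R m with hf
  set zP : (Fin n → R) ⊗[R] (∀ i, Q i) := ∑ k, Pi.single k 1 ⊗ₜ[R] q k with hzP
  have hfz : f.rTensor _ zP = ∑ k, m k ⊗ₜ[R] q k := by
    simp [hf, hzP, map_sum]
  let φ : ∀ i, Q i →ₗ[R] S ⊗[R] Q i := fun i => TensorProduct.mk R S (Q i) 1
  let Φ : (∀ i, Q i) →ₗ[R] (∀ i, S ⊗[R] Q i) := LinearMap.pi (fun i => φ i ∘ₗ LinearMap.proj i)
  have hT := piRightHom_injective_of_baseChange R S M (fun i => S ⊗[R] Q i)
    (h ι (fun i => S ⊗[R] Q i))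
  have h0 : f.rTensor _ (Φ.lTensor _ zP) = 0 := by
    apply hT
    have : f.rTensor (∀ i, S ⊗[R] Q i) (Φ.lTensor _ zP) = Φ.lTensor M (f.rTensor _ zP) := by
      rw [← LinearMap.comp_apply, ← LinearMap.comp_apply, LinearMap.rTensor_comp_lTensor,
        LinearMap.lTensor_comp_rTensor]
    rw [this, hfz, map_zero, piRightHom_lTensor Q (fun i => S ⊗[R] Q i) φ, hz]
    ext i
    simp
  obtain ⟨P', _, _, g, h', hP', hcomp, hg⟩ := exists_fp_of_rTensor_eq_zero f _ h0
  have hz' : g.rTensor _ zP = 0 := by
    apply piRightHom_injective_of_fp P' Q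
    rw [map_zero]
    ext i
    have h1 : (φ i).lTensor P' (TensorProduct.piRightHom R R P' Q (g.rTensor _ zP) i) = 0 := by
      have := congrFun (piRightHom_lTensor Q (fun i => S ⊗[R] Q i) φ (g.rTensor _ zP)) i
      rw [← this]
      have h2 : g.rTensor (∀ i, S ⊗[R] Q i) (Φ.lTensor _ zP) = Φ.lTensor P' (g.rTensor _ zP) := by
        rw [← LinearMap.comp_apply, ← LinearMap.comp_apply, LinearMap.rTensor_comp_lTensor,
          LinearMap.lTensor_comp_rTensor]
      rw [hg] at h2
      change (TensorProduct.piRightHom R R P' (fun i => S ⊗[R] Q i)) (Φ.lTensor P' _) i = 0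
      rw [← h2, map_zero]
      rfl
    have h3 : ∀ w : P' ⊗[R] Q i, TensorProduct.leftComm R P' S (Q i) ((φ i).lTensor P' w) =
        TensorProduct.mk R S (P' ⊗[R] Q i) 1 w := by
      intro w
      induction w with
      | zero => simp
      | tmul a b => simp [φ]
      | add a b ha hb => simp only [map_add, ha, hb]
    apply Module.FaithfullyFlat.tensorProduct_mk_injective (A := R) (B := S) (P' ⊗[R] Q i)
    rw [← h3, h1, map_zero]
    simp
  rw [← hfz, ← hcomp, LinearMap.rTensor_comp, LinearMap.comp_apply, hz', map_zero]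

end Groth.Agent.CalgA.ML3
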