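import Groth.Prelude.Def_Found
import Groth.Agent.CalgA.ML2

/-!
# Mittag-Leffler modules, part 4: domination (Stacks 059M, (product condition) ⇒ (domination)) and
the factorization criterion.
-/

set_option autoImplicit false
universe u v w x

open TensorProduct

namespace Groth.Agent.CalgA.ML4

open Groth.Agent.CalgA.ML1 Groth.Agent.CalgA.ML2

/-- A version of `ML1.exists_fp_of_rTensor_eq_zero` on the other side. -/
theorem exists_fp_of_lTensor_eq_zero {R : Type u} [CommRing R] {M : Type u} [AddCommGroup M]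
    [Module R M] {P : Type u} [AddCommGroup P] [Module R P] [Module.FinitePresentation R P]
    (f : P →ₗ[R] M) {N : Type u} [AddCommGroup N] [Module R N] (x : N ⊗[R] P)
    (hx : f.lTensor N x = 0) :
    ∃ (P' : Type u) (_ : AddCommGroup P') (_ : Module R P') (g : P →ₗ[R] P') (h : P' →ₗ[R] M),
      Module.FinitePresentation R P' ∧ h ∘ₗ g = f ∧ g.lTensor N x = 0 := by
  have hc : ∀ {A B : Type u} [AddCommGroup A] [Module R A] [AddCommGroup B] [Module R B]
      (φ : A →ₗ[R] B) (y : N ⊗[R] A),
      φ.rTensor N (TensorProduct.comm R N A y) = TensorProduct.comm R N B (φ.lTensor N y) := by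
    intro A B _ _ _ _ φ y
    induction y with
    | zero => simp
    | tmul a b => simp
    | add a b ha hb => simp only [map_add, ha, hb]
  obtain ⟨P', i1, i2, g, h, h1, h2, h3⟩ := exists_fp_of_rTensor_eq_zero f
    (TensorProduct.comm R N P x) (by rw [hc, hx, map_zero])
  refine ⟨P', i1, i2, g, h, h1, h2, ?_⟩
  rw [hc] at h3
  simpa using h3

/-- Domination with respect to a given family of elements. -/
theorem exists_dominating_family {R : Type u} [CommRing R] {M : Type u} [AddCommGroup M]
    [Module R M] (hM : CAlg.IsMittagLeffler R M) {P : Type u} [AddCommGroup P] [Module R P]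
    [Module.FinitePresentation R P] (f : P →ₗ[R] M) {ι : Type u} (Q : ι → Type u)
    [∀ i, AddCommGroup (Q i)] [∀ i, Module R (Q i)] (x : ∀ i, P ⊗[R] Q i)
    (hx : ∀ i, f.rTensor (Q i) (x i) = 0) :
    ∃ (P' : Type u) (_ : AddCommGroup P') (_ : Module R P') (g : P →ₗ[R] P') (h : P' →ₗ[R] M),
      Module.FinitePresentation R P' ∧ h ∘ₗ g = f ∧ ∀ i, g.rTensor (Q i) (x i) = 0 := by
  obtain ⟨z, hz⟩ := piRightHom_surjective_of_finite P Q x
  have hfz : f.rTensor (∀ i, Q i) z = 0 := by
    apply hM ι Q
    rw [piRightHom_rTensor, hz, map_zero]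
    ext i
    exact hx i
  obtain ⟨P', i1, i2, g, h, h1, h2, h3⟩ := exists_fp_of_rTensor_eq_zero f z hfz
  refine ⟨P', i1, i2, g, h, h1, h2, fun i => ?_⟩
  have := congrFun (piRightHom_rTensor g Q z) i
  rw [h3, map_zero, hz] at this
  exact this.symm

/-- The test family of elements of `P ⊗ N`, `N` finitely presented. -/
structure TestIndex {R : Type u} [CommRing R] {M : Type u} [AddCommGroup M]
    [Module R M] {P : Type u} [AddCommGroup P] [Module R P] (f : P →ₗ[R] M) : Type u where
  n : ℕ
  K : Submodule R (Fin n → R)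
  x : P ⊗[R] ((Fin n → R) ⧸ K)
  hx : f.rTensor ((Fin n → R) ⧸ K) x = 0

/-- Domination for Mittag-Leffler modules: any map `f : P → M` from a finitely presented module
factors through a finitely presented `P'` with `Ker (f ⊗ N) = Ker (g ⊗ N)` for all `N`. -/
theorem exists_dominating {R : Type u} [CommRing R] {M : Type u} [AddCommGroup M] [Module R M]
    (hM : CAlg.IsMittagLeffler R M) {P : Type u} [AddCommGroup P] [Module R P]
    [Module.FinitePresentation R P] (f : P →ₗ[R] M) :
    ∃ (P' : Type u) (_ : AddCommGroup P') (_ : Module R P') (g : P →ₗ[R] P') (h : P' →ₗ[R] M),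
      Module.FinitePresentation R P' ∧ h ∘ₗ g = f ∧
        ∀ (N : Type u) [AddCommGroup N] [Module R N] (x : P ⊗[R] N), f.rTensor N x = 0 →
          g.rTensor N x = 0 := by
  classical
  obtain ⟨P', i1, i2, g, h, h1, h2, h3⟩ := exists_dominating_family hM f
    (fun i : TestIndex f => (Fin i.n → R) ⧸ i.K) (fun i => i.x) (fun i => i.hx)
  refine ⟨P', i1, i2, g, h, h1, h2, ?_⟩
  -- vanishing on the test family
  have htest : ∀ (n : ℕ) (K : Submodule R (Fin n → R)) (x : P ⊗[R] ((Fin n → R) ⧸ K)),
      f.rTensor ((Fin n → R) ⧸ K) x = 0 → g.rTensor ((Fin n → R) ⧸ K) x = 0 := by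
    intro n K x hx
    exact h3 ⟨n, K, x, hx⟩
  -- vanishing for finitely presented modules
  have hfp : ∀ (N : Type u) [AddCommGroup N] [Module R N] [Module.FinitePresentation R N]
      (x : P ⊗[R] N), f.rTensor N x = 0 → g.rTensor N x = 0 := by
    intro N _ _ _ x hx
    obtain ⟨n, K, e, -⟩ := Module.FinitePresentation.exists_fin R N
    have h4 : f.rTensor _ (e.toLinearMap.lTensor P x) = 0 := by
      rw [← LinearMap.comp_apply, LinearMap.rTensor_comp_lTensor, ← LinearMap.lTensor_comp_rTensor,
        LinearMap.comp_apply, hx, map_zero]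
    have h5 := htest n K _ h4
    rw [← LinearMap.comp_apply, LinearMap.rTensor_comp_lTensor, ← LinearMap.lTensor_comp_rTensor,
      LinearMap.comp_apply] at h5
    have h6 : Function.Injective (e.toLinearMap.lTensor P') := (e.lTensor P').injective
    exact h6 (by rw [h5, map_zero])
  intro N _ _ x hx
  -- reduce to a finitely presented module
  obtain ⟨n, p, q, rfl⟩ := TensorProduct.exists_sum_tmul_eq x
  let a : (Fin n → R) →ₗ[R] N := Fintype.linearCombination R q
  let x₀ : P ⊗[R] (Fin n → R) := ∑ j, p j ⊗ₜ[R] Pi.single j 1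
  have hx₀ : a.lTensor P x₀ = ∑ j, p j ⊗ₜ[R] q j := by
    simp [a, x₀, map_sum]
  have h4 : a.lTensor M (f.rTensor _ x₀) = 0 := by
    rw [← LinearMap.comp_apply, LinearMap.lTensor_comp_rTensor, ← LinearMap.rTensor_comp_lTensor,
      LinearMap.comp_apply, hx₀, hx]
  obtain ⟨N', _, _, b, c, _, hcb, hb⟩ := exists_fp_of_lTensor_eq_zero a _ h4
  have h5 : f.rTensor _ (b.lTensor P x₀) = 0 := by
    rw [← LinearMap.comp_apply, LinearMap.rTensor_comp_lTensor, ← LinearMap.lTensor_comp_rTensor,
      LinearMap.comp_apply, hb]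
  have h6 := hfp N' _ h5
  rw [← hx₀, ← hcb, LinearMap.lTensor_comp, LinearMap.comp_apply, ← LinearMap.comp_apply,
    LinearMap.rTensor_comp_lTensor, ← LinearMap.lTensor_comp_rTensor, LinearMap.comp_apply, h6,
    map_zero]

/-- Solvability of a linear system `A z = w` over a module `M` is detected in `M ⊗ coker A`. -/
theorem exists_solution {R : Type u} [CommRing R] {M : Type u} [AddCommGroup M] [Module R M]
    {s : ℕ} {κ : Type} [Fintype κ] [DecidableEq κ] (A : (Fin s → R) →ₗ[R] (κ → R)) (w : κ → M)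
    (h : ∑ k, ((LinearMap.range A).mkQ (Pi.single k 1)) ⊗ₜ[R] w k = 0) :
    ∃ z : Fin s → M, ∀ k, w k = ∑ l, A (Pi.single l 1) k • z l := by
  have hspan : Submodule.span R (Set.range
      (fun k : κ => (LinearMap.range A).mkQ (Pi.single k 1))) = ⊤ := by
    rw [eq_top_iff]
    intro y _
    obtain ⟨c, rfl⟩ := (LinearMap.range A).mkQ_surjective y
    rw [Submodule.mem_span_range_iff_exists_fun]
    refine ⟨c, ?_⟩
    simp_rw [← map_smul, ← map_sum]
    congr 1
    ext k
    simp [Pi.single_apply]
  obtain ⟨t, b, y, hy, hb⟩ := TensorProduct.vanishesTrivially_of_sum_tmul_eq_zero R hspan h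
  have hb' : ∀ j, ∃ d : Fin s → R, A d = fun k => b k j := by
    intro j
    have : (LinearMap.range A).mkQ (fun k => b k j) = 0 := by
      rw [← hb j]
      simp_rw [← map_smul, ← map_sum]
      congr 1
      ext k
      simp [Pi.single_apply]
    rw [← LinearMap.mem_ker, Submodule.ker_mkQ] at this
    exact this
  choose d hd using hb'
  refine ⟨fun l => ∑ j, d j l • y j, fun k => ?_⟩
  refine (hy k).trans ?_
  simp_rw [Finset.smul_sum]
  rw [Finset.sum_comm]
  refine Finset.sum_congr rfl (fun j _ => ?_)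
  have h1 : A (d j) = ∑ l, d j l • A (Pi.single l 1) := by
    conv_lhs => rw [← Finset.univ_sum_single (d j)]
    rw [map_sum]
    refine Finset.sum_congr rfl (fun l _ => ?_)
    rw [← map_smul]
    congr 1
    ext i
    simp [Pi.single_apply]
  have h2 := congrFun (hd j) k
  rw [h1] at h2
  simp only [Finset.sum_apply, Pi.smul_apply, smul_eq_mul] at h2
  rw [← h2, Finset.sum_smul]
  refine Finset.sum_congr rfl (fun l _ => ?_)
  rw [smul_smul, mul_comm]

end Groth.Agent.CalgA.ML4
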