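import Groth.Agent.CalgA.ML4

/-!
# Mittag-Leffler modules, part 5: the factorization criterion (Stacks 059D type statement): a map
with finitely presented target which is dominated factors.
-/

set_option autoImplicit false
universe u v w x

open TensorProduct

namespace Groth.Agent.CalgA.ML5

open Groth.Agent.CalgA.ML1 Groth.Agent.CalgA.ML2 Groth.Agent.CalgA.ML4

/-- If `g : P → P'` with `P` finite and `P'` finitely presented, and `Ker (g ⊗ N) ⊆ Ker (g₂ ⊗ N)`
for all `N`, then `g₂` factors through `g`. -/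
theorem exists_factor {R : Type u} [CommRing R] {P P' M : Type u} [AddCommGroup P] [Module R P]
    [AddCommGroup P'] [Module R P'] [AddCommGroup M] [Module R M] [Module.Finite R P]
    [Module.FinitePresentation R P'] (g : P →ₗ[R] P') (g₂ : P →ₗ[R] M)
    (hdom : ∀ (N : Type u) [AddCommGroup N] [Module R N] (x : P ⊗[R] N),
      g.rTensor N x = 0 → g₂.rTensor N x = 0) :
    ∃ φ : P' →ₗ[R] M, φ ∘ₗ g = g₂ := by
  classical
  obtain ⟨s, F, hF⟩ := Module.Finite.exists_fin' R P'
  have hK : (LinearMap.ker F).FG := Module.FinitePresentation.fg_ker F hF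
  obtain ⟨t, a, ha⟩ := Submodule.fg_iff_exists_fin_generating_family.mp hK
  obtain ⟨r, p, hp⟩ := Module.Finite.exists_fin (R := R) (M := P)
  choose b hb using fun k => hF (g (p k))
  let c : (Fin t ⊕ Fin r) → (Fin s → R) := Sum.elim a b
  let A : (Fin s → R) →ₗ[R] ((Fin t ⊕ Fin r) → R) :=
    LinearMap.pi (fun κ => Fintype.linearCombination R (c κ))
  have hA : ∀ j κ, A (Pi.single j 1) κ = c κ j := by
    intro j κ
    simp [A]
  let e : (Fin t ⊕ Fin r) → ((Fin t ⊕ Fin r → R) ⧸ LinearMap.range A) :=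
    fun κ => (LinearMap.range A).mkQ (Pi.single κ 1)
  let w : (Fin t ⊕ Fin r) → M := Sum.elim (fun _ => 0) (fun k => g₂ (p k))
  let x : P ⊗[R] ((Fin t ⊕ Fin r → R) ⧸ LinearMap.range A) := ∑ k : Fin r, p k ⊗ₜ[R] e (Sum.inr k)
  have hFc : ∀ κ, F (c κ) = Sum.elim (fun _ => 0) (fun k => g (p k)) κ := by
    rintro (l | k)
    · have : a l ∈ LinearMap.ker F := ha ▸ Submodule.subset_span ⟨l, rfl⟩
      exact this
    · exact hb k
  have hrel : ∀ j, ∑ κ, c κ j • e κ = 0 := by
    intro j
    have h1 : (LinearMap.range A).mkQ (A (Pi.single j 1)) = 0 := by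
      rw [← LinearMap.mem_ker, Submodule.ker_mkQ]
      exact ⟨_, rfl⟩
    rw [← h1]
    simp only [e]
    simp_rw [← map_smul, ← map_sum]
    congr 1
    ext κ
    rw [hA]
    simp [Pi.single_apply]
  have hx : g.rTensor _ x = 0 := by
    have h1 : g.rTensor _ x = ∑ κ, F (c κ) ⊗ₜ[R] e κ := by
      rw [Fintype.sum_sum_type]
      simp [x, hFc]
    have h2 : ∀ κ, F (c κ) = ∑ j, c κ j • F (Pi.single j 1) := by
      intro κ
      conv_lhs => rw [← Finset.univ_sum_single (c κ)]
      rw [map_sum]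
      refine Finset.sum_congr rfl (fun j _ => ?_)
      rw [← map_smul]
      congr 1
      ext i
      simp [Pi.single_apply]
    rw [h1]
    simp_rw [h2, sum_tmul, smul_tmul]
    rw [Finset.sum_comm]
    simp_rw [← tmul_sum, hrel, tmul_zero, Finset.sum_const_zero]
  have hx2 := hdom _ x hx
  have hw : ∑ κ, e κ ⊗ₜ[R] w κ = 0 := by
    have := congrArg (TensorProduct.comm R _ _) hx2
    rw [map_zero] at this
    rw [← this, Fintype.sum_sum_type]
    simp [x, w]
  obtain ⟨z, hz⟩ := exists_solution A w hw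
  let φ₀ : (Fin s → R) →ₗ[R] M := Fintype.linearCombination R z
  have hφ₀ : ∀ κ, φ₀ (c κ) = w κ := by
    intro κ
    rw [hz κ]
    simp [φ₀, hA, Fintype.linearCombination_apply]
  have hker : LinearMap.ker F ≤ LinearMap.ker φ₀ := by
    rw [← ha, Submodule.span_le]
    rintro _ ⟨l, rfl⟩
    exact hφ₀ (Sum.inl l)
  let φ : P' →ₗ[R] M := (LinearMap.ker F).liftQ φ₀ hker ∘ₗ
    (F.quotKerEquivOfSurjective hF).symm.toLinearMap
  have hφ : ∀ y, φ (F y) = φ₀ y := by
    intro y
    have : (F.quotKerEquivOfSurjective hF).symm (F y) = (LinearMap.ker F).mkQ y := by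
      rw [LinearEquiv.symm_apply_eq]
      rfl
    simp [φ, this]
  refine ⟨φ, ?_⟩
  refine LinearMap.ext_on_range hp (fun k => ?_)
  rw [LinearMap.comp_apply, ← hb k, hφ]
  exact hφ₀ (Sum.inr k)

end Groth.Agent.CalgA.ML5
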