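import Groth.Agent.CalgA.ML5

/-!
# Mittag-Leffler modules, part 6: countably generated Mittag-Leffler modules are filtered by
finitely presented ones, and finitely presented stages are fixed by endomorphisms factoring
through a finitely presented module (Stacks 05D5 type statement).
-/

set_option autoImplicit false
universe u

open TensorProduct

namespace Groth.Agent.CalgA.ML6

open Groth.Agent.CalgA.ML1 Groth.Agent.CalgA.ML2 Groth.Agent.CalgA.ML4 Groth.Agent.CalgA.ML5

variable {R : Type u} [CommRing R] {M : Type u} [AddCommGroup M] [Module R M]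

variable (R M) in
/-- A finitely presented module with a map to `M`. -/
structure Stage : Type (u + 1) where
  P : Type u
  [grp : AddCommGroup P]
  [mod : Module R P]
  [fp : Module.FinitePresentation R P]
  f : P →ₗ[R] M

attribute [instance] Stage.grp Stage.mod Stage.fp

/-- `T` is a good successor of the stage `S` containing `m`. -/
structure Stage.Succ (S T : Stage R M) (m : M) : Type u where
  g : S.P →ₗ[R] T.P
  comp : T.f ∘ₗ g = S.f
  mem : m ∈ LinearMap.range T.f
  dom : ∀ (N : Type u) [AddCommGroup N] [Module R N] (x : S.P ⊗[R] N),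
    S.f.rTensor N x = 0 → g.rTensor N x = 0

theorem exists_succ (hM : CAlg.IsMittagLeffler R M) (S : Stage R M) (m : M) :
    ∃ T : Stage R M, Nonempty (S.Succ T m) := by
  obtain ⟨P', _, _, g, h, hfp, hcomp, hdom⟩ := exists_dominating hM
    (S.f.coprod (LinearMap.toSpanSingleton R M m))
  refine ⟨{ P := P', f := h }, ⟨⟨g ∘ₗ LinearMap.inl R S.P R, ?_, ?_, ?_⟩⟩⟩
  · change h ∘ₗ (g ∘ₗ LinearMap.inl R S.P R) = S.f
    rw [← LinearMap.comp_assoc, hcomp]
    simp
  · refine ⟨g (0, 1), ?_⟩
    change (h ∘ₗ g) (0, 1) = m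
    rw [hcomp]
    simp
  · intro N _ _ x hx
    rw [LinearMap.rTensor_comp, LinearMap.comp_apply]
    apply hdom
    rw [← LinearMap.comp_apply, ← LinearMap.rTensor_comp, LinearMap.coprod_inl, hx]

/-- The sequence of stages. -/
noncomputable def stages (hM : CAlg.IsMittagLeffler R M) (S₀ : Stage R M) (x : ℕ → M) :
    ℕ → Stage R M
  | 0 => S₀
  | n + 1 => Classical.choose (exists_succ hM (stages hM S₀ x n) (x n))

/-- The transition data. -/
noncomputable def stages_succ (hM : CAlg.IsMittagLeffler R M) (S₀ : Stage R M) (x : ℕ → M)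
    (n : ℕ) : (stages hM S₀ x n).Succ (stages hM S₀ x (n + 1)) (x n) :=
  Classical.choice (Classical.choose_spec (exists_succ hM (stages hM S₀ x n) (x n)))

/-- A sequence of modules over `M`, with backward maps, as needed for extending maps. -/
theorem exists_extension {P : ℕ → Type u} [∀ n, AddCommGroup (P n)] [∀ n, Module R (P n)]
    (f : ∀ n, P n →ₗ[R] M) (g : ∀ n, P n →ₗ[R] P (n + 1))
    (hfg : ∀ n, f (n + 1) ∘ₗ g n = f n)
    (hker : ∀ n p, f n p = 0 → g n p = 0)
    (hsurj : ⨆ n, LinearMap.range (f n) = ⊤)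
    (φ : ∀ n, P (n + 2) →ₗ[R] P (n + 1)) (hφ : ∀ n, φ n ∘ₗ g (n + 1) ∘ₗ g n = g n) :
    ∃ β : M →ₗ[R] P 1, β ∘ₗ f 0 = g 0 := by
  -- the maps `β' n : P (n+1) → P 1`
  let β' : ∀ n, P (n + 1) →ₗ[R] P 1 := fun n => Nat.rec LinearMap.id (fun n b => b ∘ₗ φ n) n
  have hβ' : ∀ n, β' (n + 1) = β' n ∘ₗ φ n := fun n => rfl
  have hβ'0 : β' 0 = LinearMap.id := rfl
  let b : ∀ n, P n →ₗ[R] P 1 := fun n => β' n ∘ₗ g n
  have hb : ∀ n, b (n + 1) ∘ₗ g n = b n := by
    intro n
    simp only [b]
    rw [hβ', LinearMap.comp_assoc, LinearMap.comp_assoc, hφ]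
  let Γ : ℕ → Submodule R (M × P 1) := fun n => LinearMap.range ((f n).prod (b n))
  have hmono : Monotone Γ := by
    refine monotone_nat_of_le_succ (fun n => ?_)
    rintro _ ⟨p, rfl⟩
    refine ⟨g n p, ?_⟩
    have h1 := LinearMap.congr_fun (hfg n) p
    have h2 := LinearMap.congr_fun (hb n) p
    simp only [LinearMap.comp_apply] at h1 h2
    simp [h1, h2]
  have hmem : ∀ y, y ∈ ⨆ n, Γ n ↔ ∃ n p, (f n p, b n p) = y := by
    intro y
    rw [Submodule.mem_iSup_of_directed _ hmono.directed_le]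
    rfl
  have hfun : ∀ y, (0, y) ∈ ⨆ n, Γ n → y = 0 := by
    intro y hy
    obtain ⟨n, p, hp⟩ := (hmem _).mp hy
    rw [Prod.mk.injEq] at hp
    have := hker n p hp.1
    rw [← hp.2]
    simp [b, this]
  have hbij : Function.Bijective (Prod.fst ∘ (⨆ n, Γ n).subtype) := by
    constructor
    · rintro ⟨⟨m, y⟩, h⟩ ⟨⟨m', y'⟩, h'⟩ heq
      simp only [Function.comp_apply, Submodule.subtype_apply] at heq
      subst heq
      have := hfun (y - y') (by
        have := Submodule.sub_mem _ h h'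
        simpa using this)
      rw [sub_eq_zero] at this
      subst this
      rfl
    · intro m
      have hm : m ∈ ⨆ n, LinearMap.range (f n) := hsurj ▸ Submodule.mem_top
      rw [Submodule.mem_iSup_of_directed] at hm
      · obtain ⟨n, p, hp⟩ := hm
        exact ⟨⟨(f n p, b n p), (hmem _).mpr ⟨n, p, rfl⟩⟩, hp⟩
      · refine (monotone_nat_of_le_succ (fun n => ?_)).directed_le
        rw [← hfg n]
        exact LinearMap.range_comp_le_range _ _
  obtain ⟨β, hβ⟩ := Submodule.exists_eq_graph hbij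
  refine ⟨β, ?_⟩
  ext p
  have : (f 0 p, b 0 p) ∈ β.graph := by
    rw [← hβ, hmem]
    exact ⟨0, p, rfl⟩
  rw [LinearMap.mem_graph_iff] at this
  simp only [LinearMap.comp_apply]
  rw [← this]
  simp [b, hβ'0]

/-- For a countably generated Mittag-Leffler module `M` and `f₀ : P₀ → M` with `P₀` finitely
presented, there are maps `β : M → P'`, `γ : P' → M`, `P'` finitely presented, with
`γ ∘ β ∘ f₀ = f₀`. -/
theorem exists_endo (hM : CAlg.IsMittagLeffler R M) (hc : CAlg.IsCountablyGenerated R M)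
    {P₀ : Type u} [AddCommGroup P₀] [Module R P₀] [Module.FinitePresentation R P₀]
    (f₀ : P₀ →ₗ[R] M) :
    ∃ (P' : Type u) (_ : AddCommGroup P') (_ : Module R P') (_ : Module.FinitePresentation R P')
      (β : M →ₗ[R] P') (γ : P' →ₗ[R] M), γ ∘ₗ β ∘ₗ f₀ = f₀ := by
  obtain ⟨s, hs, hspan⟩ := hc
  obtain ⟨x, hx⟩ : ∃ x : ℕ → M, s ⊆ Set.range x := by
    rcases s.eq_empty_or_nonempty with h | h
    · exact ⟨fun _ => 0, by simp [h]⟩
    · obtain ⟨x, rfl⟩ := hs.exists_eq_range h
      exact ⟨x, subset_rfl⟩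
  let St := stages hM { P := P₀, f := f₀ } x
  have hSt : ∀ n, (St n).Succ (St (n + 1)) (x n) := stages_succ hM { P := P₀, f := f₀ } x
  have hdom : ∀ n, ∃ φ : (St (n + 2)).P →ₗ[R] (St (n + 1)).P,
      φ ∘ₗ ((hSt (n + 1)).g ∘ₗ (hSt n).g) = (hSt n).g := by
    intro n
    apply exists_factor
    intro N _ _ y hy
    apply (hSt n).dom
    rw [← (hSt n).comp, ← (hSt (n + 1)).comp, LinearMap.comp_assoc, LinearMap.rTensor_comp,
      LinearMap.comp_apply, hy, map_zero]
  choose φ hφ using hdom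
  obtain ⟨β, hβ⟩ := exists_extension (P := fun n => (St n).P) (fun n => (St n).f)
    (fun n => (hSt n).g) (fun n => (hSt n).comp)
    (fun n p hp => by
      have := (hSt n).dom R (p ⊗ₜ[R] 1) (by simp [hp])
      have := congrArg (TensorProduct.rid R _) this
      simpa using this)
    (by
      rw [eq_top_iff, ← hspan, Submodule.span_le]
      intro m hm
      obtain ⟨n, rfl⟩ := hx hm
      exact Submodule.mem_iSup_of_mem (n + 1) (hSt n).mem)
    φ hφ
  refine ⟨(St 1).P, inferInstance, inferInstance, inferInstance, β, (St 1).f, ?_⟩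
  have h1 : β ∘ₗ f₀ = (hSt 0).g := hβ
  rw [h1]
  exact (hSt 0).comp

end Groth.Agent.CalgA.ML6
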