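import Groth.Agent.CalgA.ML6
import Mathlib.RingTheory.Polynomial.Basic
import Mathlib.RingTheory.AdjoinRoot
import Mathlib.RingTheory.Nakayama
import Mathlib.RingTheory.LocalRing.ResidueField.Basic
import Mathlib.LinearAlgebra.Matrix.Charpoly.LinearMap
import Mathlib.RingTheory.Henselian

/-!
# Mittag-Leffler modules, part 7: splitting by a henselian factorization (Stacks 05D6, local step).
-/

set_option autoImplicit false
universe u v

open Polynomial

namespace Groth.Agent.CalgA.ML7

/-- Coprimality of a monic polynomial with another one lifts from the residue field. -/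
theorem isCoprime_of_map_residue {R : Type u} [CommRing R] [IsLocalRing R] {U V : R[X]}
    (hU : U.Monic)
    (h : IsCoprime (U.map (IsLocalRing.residue R)) (V.map (IsLocalRing.residue R))) :
    IsCoprime U V := by
  obtain ⟨a', b', hab⟩ := h
  obtain ⟨a, rfl⟩ := Polynomial.map_surjective _ IsLocalRing.residue_surjective a'
  obtain ⟨b, rfl⟩ := Polynomial.map_surjective _ IsLocalRing.residue_surjective b'
  set c : R[X] := 1 - (a * U + b * V) with hc
  have hc0 : c.map (IsLocalRing.residue R) = 0 := by
    simp [hc, hab]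
  have hcm : c ∈ (IsLocalRing.maximalIdeal R).map (C : R →+* R[X]) := by
    rw [Ideal.mem_map_C_iff]
    intro n
    rw [← IsLocalRing.ker_residue, RingHom.mem_ker, ← Polynomial.coeff_map, hc0, coeff_zero]
  have : Module.Finite R (AdjoinRoot U) := hU.finite_adjoinRoot
  let N : Submodule R (AdjoinRoot U) :=
    (Ideal.span {AdjoinRoot.mk U V} : Ideal (AdjoinRoot U)).restrictScalars R
  have hN : (⊤ : Submodule R (AdjoinRoot U)) ≤ N := by
    refine Submodule.le_of_le_smul_of_le_jacobson_bot (I := IsLocalRing.maximalIdeal R)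
      Module.Finite.fg_top (IsLocalRing.maximalIdeal_le_jacobson _) ?_
    intro y _
    obtain ⟨q, rfl⟩ := AdjoinRoot.mk_surjective y
    have h1 : q = q * b * V + q * c + q * a * U := by
      rw [hc]; ring
    have h2 : AdjoinRoot.mk U q = AdjoinRoot.mk U (q * b) * AdjoinRoot.mk U V +
        AdjoinRoot.mk U (q * c) := by
      conv_lhs => rw [h1]
      simp
    rw [h2]
    refine Submodule.add_mem_sup ?_ ?_
    · exact Ideal.mul_mem_left _ _ (Ideal.subset_span rfl)
    · rw [Ideal.smul_top_eq_map, Submodule.restrictScalars_mem]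
      have h3 : (IsLocalRing.maximalIdeal R).map (algebraMap R (AdjoinRoot U)) =
          ((IsLocalRing.maximalIdeal R).map (C : R →+* R[X])).map (AdjoinRoot.mk U) := by
        rw [Ideal.map_map]; rfl
      rw [h3]
      exact Ideal.mem_map_of_mem _ (Ideal.mul_mem_left _ _ hcm)
  have h1 : (1 : AdjoinRoot U) ∈ N := hN trivial
  rw [Submodule.restrictScalars_mem, Ideal.mem_span_singleton'] at h1
  obtain ⟨y, hy⟩ := h1
  obtain ⟨q, rfl⟩ := AdjoinRoot.mk_surjective y
  rw [← map_mul, ← map_one (AdjoinRoot.mk U), AdjoinRoot.mk_eq_mk] at hy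
  obtain ⟨d, hd⟩ := hy
  refine ⟨-d, q, ?_⟩
  rw [sub_eq_iff_eq_add] at hd
  rw [hd]; ring

/-- A module which is a retract, up to an automorphism, of a finitely presented one is finitely
presented. -/
theorem fp_of_retract {R : Type u} [CommRing R] {N P : Type v} [AddCommGroup N] [Module R N]
    [AddCommGroup P] [Module R P] [Module.FinitePresentation R P] (i : N →ₗ[R] P) (r : P →ₗ[R] N)
    (h : Function.Bijective (r ∘ₗ i)) : Module.FinitePresentation R N := by
  let e := LinearEquiv.ofBijective (r ∘ₗ i) h
  let s : N →ₗ[R] P := i ∘ₗ e.symm.toLinearMap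
  have hs : ∀ y, r (s y) = y := fun y => e.apply_symm_apply y
  refine Module.finitePresentation_of_surjective r (fun y => ⟨s y, hs y⟩) ?_
  have : LinearMap.ker r = LinearMap.range (LinearMap.id - s ∘ₗ r) := by
    ext p
    constructor
    · intro hp
      rw [LinearMap.mem_ker] at hp
      exact ⟨p, by simp [hp]⟩
    · rintro ⟨p, rfl⟩
      simp [hs]
  rw [this]
  exact Submodule.fg_range _

variable (R : Type u) [CommRing R] [IsLocalRing R] in
/-- Hensel's lemma in the form of factorization lifting (Stacks 04GG (6)). -/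
def FactorLift : Prop :=
  ∀ (f : R[X]) (g₀ h₀ : (IsLocalRing.ResidueField R)[X]), g₀.Monic → IsCoprime g₀ h₀ →
    f.map (IsLocalRing.residue R) = g₀ * h₀ →
    ∃ g h : R[X], f = g * h ∧ g.Monic ∧ g.map (IsLocalRing.residue R) = g₀ ∧
      h.map (IsLocalRing.residue R) = h₀

/-- If an endomorphism `α = γ ∘ β` of `M` factors through a finitely presented module and fixes
`x`, then `x` lies in a finitely presented direct summand of `M`. -/
theorem exists_split {R : Type u} [CommRing R] [IsLocalRing R] (hR : FactorLift R) {M P : Type u}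
    [AddCommGroup M] [Module R M] [AddCommGroup P] [Module R P] [Module.FinitePresentation R P]
    (β : M →ₗ[R] P) (γ : P →ₗ[R] M) (x : M) (hx : γ (β x) = x) :
    ∃ N K : Submodule R M, IsCompl N K ∧ x ∈ N ∧ Module.FinitePresentation R N := by
  classical
  let α : M →ₗ[R] M := γ ∘ₗ β
  obtain ⟨T, hTm, hT⟩ := LinearMap.exists_monic_and_aeval_eq_zero R (β ∘ₗ γ)
  have hcomm : ∀ (q : R[X]), aeval α q ∘ₗ γ = γ ∘ₗ aeval (β ∘ₗ γ) q := by
    intro q
    induction q using Polynomial.induction_on' with
    | add p q hp hq => rw [map_add, map_add, LinearMap.add_comp, LinearMap.comp_add, hp, hq]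
    | monomial n a =>
      simp only [aeval_monomial]
      ext p
      simp only [LinearMap.comp_apply, Module.End.mul_apply, Module.algebraMap_end_apply, map_smul]
      congr 1
      induction n generalizing p with
      | zero => simp
      | succ n ih =>
        rw [pow_succ, pow_succ, Module.End.mul_apply, Module.End.mul_apply, ← ih]
        rfl
  have hα : aeval α (X * T) = 0 := by
    rw [mul_comm, map_mul, aeval_X]
    change aeval α T ∘ₗ (γ ∘ₗ β) = 0
    rw [← LinearMap.comp_assoc, hcomm, hT]
    simp
  -- factor the reduction of `X * T`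
  let κ := IsLocalRing.ResidueField R
  set F : κ[X] := (X * T).map (IsLocalRing.residue R) with hF
  have hF0 : F ≠ 0 := ((monic_X.mul hTm).map _).ne_zero
  obtain ⟨h₀, hFh, hh₀⟩ : ∃ h₀ : κ[X], F = X ^ (F.rootMultiplicity 0) * h₀ ∧ ¬ X ∣ h₀ := by
    obtain ⟨q, hq, hq'⟩ := Polynomial.exists_eq_pow_rootMultiplicity_mul_and_not_dvd F hF0 0
    rw [C_0, sub_zero] at hq hq'
    exact ⟨q, hq, hq'⟩
  have hcop : IsCoprime (X ^ (F.rootMultiplicity 0)) h₀ := by
    apply IsCoprime.pow_left
    exact (Polynomial.irreducible_X.coprime_iff_not_dvd).mpr hh₀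
  obtain ⟨U, V, hUV, hUm, hU, hV⟩ := hR (X * T) _ h₀ (monic_X_pow _) hcop hFh
  have hUVc : IsCoprime U V := isCoprime_of_map_residue hUm (by rw [hU, hV]; exact hcop)
  have hV0 : IsUnit (V.coeff 0) := by
    rw [← IsLocalRing.notMem_maximalIdeal, ← IsLocalRing.ker_residue, RingHom.mem_ker,
      ← Polynomial.coeff_map, hV, ← X_dvd_iff]
    exact hh₀
  have hU1 : IsUnit (U.eval 1) := by
    rw [← IsLocalRing.notMem_maximalIdeal, ← IsLocalRing.ker_residue, RingHom.mem_ker,
      ← Polynomial.eval_map_apply (IsLocalRing.residue R)]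
    simp [hU]
  have hker : LinearMap.ker (aeval α V) ⊔ LinearMap.ker (aeval α U) = ⊤ := by
    rw [sup_ker_aeval_eq_ker_aeval_mul_of_coprime α hUVc.symm, mul_comm, ← hUV, hα]
    exact LinearMap.ker_zero
  have hcompl : IsCompl (LinearMap.ker (aeval α V)) (LinearMap.ker (aeval α U)) :=
    ⟨disjoint_ker_aeval_of_isCoprime α hUVc.symm, codisjoint_iff.mpr hker⟩
  refine ⟨LinearMap.ker (aeval α V), LinearMap.ker (aeval α U), hcompl, ?_, ?_⟩
  · have hev : ∀ q : R[X], aeval α q x = q.eval 1 • x := by
      intro q
      induction q using Polynomial.induction_on' with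
      | add p q hp hq => rw [map_add, LinearMap.add_apply, hp, hq, eval_add, add_smul]
      | monomial n a =>
        have : ∀ n : ℕ, (α ^ n) x = x := by
          intro n
          induction n with
          | zero => simp
          | succ n ih =>
            rw [pow_succ, Module.End.mul_apply]
            have : α x = x := hx
            rw [this, ih]
        simp [aeval_monomial, Module.End.mul_apply, Module.algebraMap_end_apply, this]
    have h1 := hev (U * V)
    rw [← hUV, hα, hUV, eval_mul, mul_smul] at h1
    rw [LinearMap.mem_ker, hev]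
    obtain ⟨u, hu⟩ := hU1
    rw [← hu] at h1
    have h2 : (↑u⁻¹ : R) • ((u : R) • V.eval 1 • x) = 0 := by
      rw [← h1]; simp
    rwa [smul_smul, Units.inv_mul, one_smul] at h2
  · set N := LinearMap.ker (aeval α V) with hN
    have hαN : ∀ (q : R[X]) (y : M), y ∈ N → aeval α q y ∈ N := by
      intro q y hy
      rw [hN, LinearMap.mem_ker] at hy ⊢
      rw [← Module.End.mul_apply, ← map_mul, mul_comm, map_mul, Module.End.mul_apply, hy, map_zero]
    have hαN' : ∀ y, y ∈ N → α y ∈ N := by
      intro y hy
      have := hαN X y hy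
      rwa [aeval_X] at this
    let r : P →ₗ[R] N := Submodule.projectionOnto N _ hcompl ∘ₗ γ
    let i : N →ₗ[R] P := β ∘ₗ N.subtype
    have hri : ∀ y : N, (r (i y) : M) = α y := by
      intro y
      have h1 : γ (β y) ∈ N := hαN' y y.2
      change ((Submodule.projectionOnto N _ hcompl (γ (β y)) : N) : M) = γ (β y)
      rw [Submodule.projectionOnto_apply_of_mem_left hcompl h1]
    have hVy : ∀ y : N, α (aeval α V.divX (y : M)) + V.coeff 0 • (y : M) = 0 := by
      intro y
      have h1 : aeval α V (y : M) = 0 := y.2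
      rw [← Polynomial.divX_mul_X_add V] at h1
      rw [mul_comm, map_add, map_mul, aeval_X, aeval_C] at h1
      simpa [Module.End.mul_apply, Module.algebraMap_end_apply] using h1
    obtain ⟨v, hv⟩ := hV0
    refine fp_of_retract i r ⟨?_, ?_⟩
    · rw [injective_iff_map_eq_zero]
      intro y hy
      have h1 : α y = 0 := by
        rw [← hri]
        exact congrArg Subtype.val hy
      have h2 := hVy y
      have h3 : α (aeval α V.divX (y : M)) = aeval α V.divX (α y) := by
        rw [← Module.End.mul_apply, ← Module.End.mul_apply]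
        have h5 : aeval α (X * V.divX) = aeval α (V.divX * X) := by rw [mul_comm]
        rw [map_mul, map_mul, aeval_X] at h5
        rw [h5]
      rw [h3, h1, map_zero, zero_add, ← hv] at h2
      have h4 : (↑v⁻¹ : R) • ((v : R) • (y : M)) = 0 := by rw [h2, smul_zero]
      rw [smul_smul, Units.inv_mul, one_smul] at h4
      exact Subtype.ext h4
    · intro y
      refine ⟨(-(↑v⁻¹ : R)) • ⟨aeval α V.divX (y : M), hαN _ _ y.2⟩, ?_⟩
      apply Subtype.ext
      rw [LinearMap.comp_apply, hri]
      have h2 := hVy y
      rw [add_eq_zero_iff_eq_neg] at h2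
      rw [Submodule.coe_smul, map_smul, h2, smul_neg, neg_smul, neg_neg, ← hv, smul_smul,
        Units.inv_mul, one_smul]

end Groth.Agent.CalgA.ML7
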