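import Groth.Agent.CalgA.ML7
import Mathlib.Algebra.DirectSum.Module
import Mathlib.LinearAlgebra.DFinsupp

/-!
# Mittag-Leffler modules, part 8: countably generated Mittag-Leffler modules over henselian local
rings are direct sums of finitely presented modules (Stacks 05D6), given factorization lifting.
-/

set_option autoImplicit false
universe u v

open TensorProduct

namespace Groth.Agent.CalgA.ML8

open Groth.Agent.CalgA.ML2 Groth.Agent.CalgA.ML6 Groth.Agent.CalgA.ML7

/-- Independence of a sequence of submodules, tested on partial sums. -/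
theorem iSupIndep_of_disjoint_partial {R : Type u} [CommRing R] {M : Type v} [AddCommGroup M]
    [Module R M] (S N : ℕ → Submodule R M) (hle : ∀ n, N n ≤ S (n + 1)) (hmono : Monotone S)
    (hd : ∀ n, Disjoint (S n) (N n)) : iSupIndep N := by
  classical
  rw [iSupIndep_iff_finsetSum_eq_zero_imp_eq_zero]
  intro s
  induction s using Finset.induction_on_max with
  | empty => simp
  | insert a s ha ih =>
    intro v hv h0
    have hns : a ∉ s := fun h => lt_irrefl a (ha a h)
    rw [Finset.sum_insert hns] at h0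
    have h1 : ∑ i ∈ s, v i ∈ S a := by
      refine Submodule.sum_mem _ (fun i hi => ?_)
      exact hmono (Nat.succ_le_of_lt (ha i hi)) (hle i (hv i (Finset.mem_insert_of_mem hi)))
    have h2 : v a ∈ N a := hv a (Finset.mem_insert_self _ _)
    have h3 : v a ∈ S a := by
      rw [add_eq_zero_iff_eq_neg] at h0
      rw [h0]
      exact Submodule.neg_mem _ h1
    have h4 : v a = 0 := (Submodule.disjoint_def.mp (hd a)) _ h3 h2
    rw [h4, zero_add] at h0
    intro i hi
    rcases Finset.mem_insert.mp hi with rfl | hi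
    · exact h4
    · exact ih v (fun j hj => hv j (Finset.mem_insert_of_mem hj)) h0 i hi

/-- A direct summand of a Mittag-Leffler module is Mittag-Leffler. -/
theorem isMittagLeffler_of_retract {R : Type u} [CommRing R] {M K : Type u} [AddCommGroup M]
    [Module R M] [AddCommGroup K] [Module R K] (i : K →ₗ[R] M) (r : M →ₗ[R] K)
    (h : r ∘ₗ i = LinearMap.id) (hM : CAlg.IsMittagLeffler R M) : CAlg.IsMittagLeffler R K := by
  intro ι Q _ _
  rw [injective_iff_map_eq_zero]
  intro z hz
  have h1 : i.rTensor (∀ i, Q i) z = 0 := by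
    apply hM ι Q
    rw [piRightHom_rTensor, hz, map_zero]
    ext j
    simp
  have h2 : r.rTensor (∀ i, Q i) (i.rTensor (∀ i, Q i) z) = z := by
    rw [← LinearMap.comp_apply, ← LinearMap.rTensor_comp, h]
    simp
  rw [← h2, h1, map_zero]

/-- A quotient of a countably generated module is countably generated. -/
theorem isCountablyGenerated_of_surjective {R : Type u} [CommRing R] {M K : Type u}
    [AddCommGroup M] [Module R M] [AddCommGroup K] [Module R K] (r : M →ₗ[R] K)
    (h : Function.Surjective r) (hM : CAlg.IsCountablyGenerated R M) :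
    CAlg.IsCountablyGenerated R K := by
  obtain ⟨s, hs, hspan⟩ := hM
  refine ⟨r '' s, hs.image _, ?_⟩
  rw [← Submodule.map_span, hspan, Submodule.map_top, LinearMap.range_eq_top.mpr h]

/-- The inductive step of the decomposition. -/
theorem exists_step {R : Type u} [CommRing R] [IsLocalRing R] (hR : FactorLift R) {M : Type u}
    [AddCommGroup M] [Module R M] (hM : CAlg.IsMittagLeffler R M)
    (hc : CAlg.IsCountablyGenerated R M) (S K : Submodule R M) (hSK : IsCompl S K) (x : M) :
    ∃ N K' : Submodule R M, Module.FinitePresentation R N ∧ Disjoint S N ∧ IsCompl (S ⊔ N) K' ∧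
      x ∈ S ⊔ N := by
  have hKM : CAlg.IsMittagLeffler R K :=
    isMittagLeffler_of_retract K.subtype (Submodule.projectionOnto K S hSK.symm)
      (by ext y; simp) hM
  have hKc : CAlg.IsCountablyGenerated R K :=
    isCountablyGenerated_of_surjective (Submodule.projectionOnto K S hSK.symm)
      (Submodule.projectionOnto_surjective hSK.symm) hc
  obtain ⟨s, k, rfl⟩ : ∃ (s : S) (k : K), x = s + k := by
    have : x ∈ S ⊔ K := hSK.sup_eq_top ▸ Submodule.mem_top
    obtain ⟨s, hs, k, hk, rfl⟩ := Submodule.mem_sup.mp this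
    exact ⟨⟨s, hs⟩, ⟨k, hk⟩, rfl⟩
  obtain ⟨P', _, _, _, β, γ, hβγ⟩ := exists_endo hKM hKc (LinearMap.toSpanSingleton R K k)
  have hk : γ (β k) = k := by
    have := LinearMap.congr_fun hβγ 1
    simpa using this
  obtain ⟨N₀, K₀, hNK, hkN, hfp⟩ := exists_split hR β γ k hk
  have hN : N₀.map K.subtype ≤ K := Submodule.map_subtype_le K N₀
  have hK : K₀.map K.subtype ≤ K := Submodule.map_subtype_le K K₀
  have hsup : N₀.map K.subtype ⊔ K₀.map K.subtype = K := by
    rw [← Submodule.map_sup, hNK.sup_eq_top, Submodule.map_top, Submodule.range_subtype]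
  have hdisj : Disjoint (N₀.map K.subtype) (K₀.map K.subtype) :=
    (Submodule.disjoint_map K.injective_subtype hNK.disjoint)
  refine ⟨N₀.map K.subtype, K₀.map K.subtype, ?_, hSK.disjoint.mono_right hN, ⟨?_, ?_⟩, ?_⟩
  · exact Module.FinitePresentation.of_equiv
      (Submodule.equivMapOfInjective K.subtype K.injective_subtype N₀)
  · exact hdisj.disjoint_sup_left_of_disjoint_sup_right (by rw [hsup]; exact hSK.disjoint)
  · rw [codisjoint_iff, sup_assoc, hsup, hSK.sup_eq_top]
  · exact Submodule.add_mem_sup s.2 ⟨k, hkN, rfl⟩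

/-- Stacks 05D6 given factorization lifting. -/
theorem exists_decomposition {R : Type u} [CommRing R] [IsLocalRing R] (hR : FactorLift R)
    {M : Type u} [AddCommGroup M] [Module R M] (hM : CAlg.IsMittagLeffler R M)
    (hc : CAlg.IsCountablyGenerated R M) :
    ∃ N : ℕ → Submodule R M, iSupIndep N ∧ ⨆ n, N n = ⊤ ∧
      ∀ i, Module.FinitePresentation R (N i) := by
  classical
  obtain ⟨s, hs, hspan⟩ := id hc
  obtain ⟨x, hx⟩ : ∃ x : ℕ → M, s ⊆ Set.range x := by
    rcases s.eq_empty_or_nonempty with h | h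
    · exact ⟨fun _ => 0, by simp [h]⟩
    · obtain ⟨x, rfl⟩ := hs.exists_eq_range h
      exact ⟨x, subset_rfl⟩
  choose! N K hfp hdisj hcompl hmem using fun (S K : Submodule R M) (h : IsCompl S K) (x : M) =>
    exists_step hR hM hc S K h x
  let seq : ℕ → {p : Submodule R M × Submodule R M // IsCompl p.1 p.2} := fun n =>
    Nat.rec ⟨(⊥, ⊤), isCompl_bot_top⟩
      (fun n p => ⟨(p.1.1 ⊔ N p.1.1 p.1.2 (x n), K p.1.1 p.1.2 (x n)), hcompl _ _ p.2 _⟩) n
  let S : ℕ → Submodule R M := fun n => (seq n).1.1
  let Kn : ℕ → Submodule R M := fun n => (seq n).1.2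
  have hSK : ∀ n, IsCompl (S n) (Kn n) := fun n => (seq n).2
  let Nn : ℕ → Submodule R M := fun n => N (S n) (Kn n) (x n)
  have hS : ∀ n, S (n + 1) = S n ⊔ Nn n := fun n => rfl
  have hmono : Monotone S := monotone_nat_of_le_succ (fun n => by rw [hS]; exact le_sup_left)
  refine ⟨Nn, iSupIndep_of_disjoint_partial S Nn (fun n => by rw [hS]; exact le_sup_right) hmono
    (fun n => hdisj _ _ (hSK n) _), ?_, fun n => hfp _ _ (hSK n) _⟩
  have hSle : ∀ n, S n ≤ ⨆ n, Nn n := by
    intro n
    induction n with
    | zero => exact bot_le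
    | succ n ih => rw [hS]; exact sup_le ih (le_iSup Nn n)
  rw [eq_top_iff, ← hspan, Submodule.span_le]
  intro m hm
  obtain ⟨n, rfl⟩ := hx hm
  exact hSle (n + 1) (hmem _ _ (hSK n) _)

end Groth.Agent.CalgA.ML8
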