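import Mathlib.LinearAlgebra.TensorProduct.Pi
import Mathlib.LinearAlgebra.TensorProduct.RightExactness
import Mathlib.LinearAlgebra.TensorProduct.Finiteness
import Mathlib.Algebra.Module.FinitePresentation

/-!
Tensor products and arbitrary products (`TensorProduct.piRightHom`): surjectivity for finite modules,
bijectivity for finitely presented modules, and the converses (Stacks 059J, 059K).
-/

set_option autoImplicit false
universe u v w

namespace Groth.Agent.CalgA.MLBasic

open TensorProduct

section

variable {R : Type u} [CommRing R] {M : Type v} {N : Type w}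
    [AddCommGroup M] [Module R M] [AddCommGroup N] [Module R N]

/-- Naturality of `piRightHom` in the first variable. -/
theorem piRightHom_rTensor (f : M →ₗ[R] N)
    {ι : Type*} (Q : ι → Type*) [∀ i, AddCommGroup (Q i)] [∀ i, Module R (Q i)]
    (z : M ⊗[R] (∀ i, Q i)) (i : ι) :
    TensorProduct.piRightHom R R N Q (f.rTensor _ z) i
      = f.rTensor (Q i) (TensorProduct.piRightHom R R M Q z i) := by
  induction z with
  | zero => simp
  | tmul x y => simp
  | add x y hx hy => simp [hx, hy]

/-- Naturality of `piRightHom` in the second variable. -/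
theorem piRightHom_lTensor
    {ι : Type*} (Q Q' : ι → Type*) [∀ i, AddCommGroup (Q i)] [∀ i, Module R (Q i)]
    [∀ i, AddCommGroup (Q' i)] [∀ i, Module R (Q' i)] (g : ∀ i, Q i →ₗ[R] Q' i)
    (z : M ⊗[R] (∀ i, Q i)) (i : ι) :
    TensorProduct.piRightHom R R M Q'
      ((LinearMap.pi (fun i => (g i).comp (LinearMap.proj i))).lTensor M z) i
      = (g i).lTensor M (TensorProduct.piRightHom R R M Q z i) := by
  induction z with
  | zero => simp
  | tmul x y => simp [LinearMap.pi_apply]
  | add x y hx hy => simp [hx, hy]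

/-- The coordinates of an element of `Rⁿ ⊗ X`. -/
noncomputable def freeEquiv (R : Type u) [CommRing R] (n : ℕ) (X : Type*) [AddCommGroup X]
    [Module R X] : (Fin n → R) ⊗[R] X ≃ₗ[R] (Fin n → X) :=
  (TensorProduct.comm R _ _).trans (TensorProduct.piScalarRight R R X (Fin n))

theorem freeEquiv_tmul (n : ℕ) {X : Type*} [AddCommGroup X] [Module R X] (f : Fin n → R) (x : X)
    (j : Fin n) : freeEquiv R n X (f ⊗ₜ x) j = f j • x := by
  simp [freeEquiv]

theorem freeEquiv_piRightHom (n : ℕ)
    {ι : Type*} (Q : ι → Type*) [∀ i, AddCommGroup (Q i)] [∀ i, Module R (Q i)]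
    (z : (Fin n → R) ⊗[R] (∀ i, Q i)) (i : ι) (j : Fin n) :
    freeEquiv R n (Q i) (TensorProduct.piRightHom R R (Fin n → R) Q z i) j
      = freeEquiv R n (∀ i, Q i) z j i := by
  induction z with
  | zero => simp
  | tmul x y => simp [freeEquiv_tmul]
  | add x y hx hy => simp [hx, hy]

theorem piRightHom_free_injective (n : ℕ)
    {ι : Type*} (Q : ι → Type*) [∀ i, AddCommGroup (Q i)] [∀ i, Module R (Q i)] :
    Function.Injective (TensorProduct.piRightHom R R (Fin n → R) Q) := by
  intro z z' h
  apply (freeEquiv R n (∀ i, Q i)).injective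
  funext j i
  rw [← freeEquiv_piRightHom, ← freeEquiv_piRightHom, h]

theorem piRightHom_free_surjective (n : ℕ)
    {ι : Type*} (Q : ι → Type*) [∀ i, AddCommGroup (Q i)] [∀ i, Module R (Q i)] :
    Function.Surjective (TensorProduct.piRightHom R R (Fin n → R) Q) := by
  intro w
  refine ⟨(freeEquiv R n (∀ i, Q i)).symm (fun j i => freeEquiv R n (Q i) (w i) j), ?_⟩
  funext i
  apply (freeEquiv R n (Q i)).injective
  funext j
  rw [freeEquiv_piRightHom, LinearEquiv.apply_symm_apply]

theorem piRightHom_surjective_of_finite [Module.Finite R M]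
    {ι : Type*} (Q : ι → Type*) [∀ i, AddCommGroup (Q i)] [∀ i, Module R (Q i)] :
    Function.Surjective (TensorProduct.piRightHom R R M Q) := by
  intro w
  obtain ⟨n, f, hf⟩ := Module.Finite.exists_fin' R M
  have h1 : ∀ i, ∃ y, f.rTensor (Q i) y = w i := fun i =>
    LinearMap.rTensor_surjective (Q i) hf (w i)
  choose y hy using h1
  obtain ⟨z, hz⟩ := piRightHom_free_surjective (R := R) n Q y
  refine ⟨f.rTensor _ z, ?_⟩
  funext i
  rw [piRightHom_rTensor, hz, hy]

theorem piRightHom_injective_of_finitePresentation [Module.FinitePresentation R M]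
    {ι : Type*} (Q : ι → Type*) [∀ i, AddCommGroup (Q i)] [∀ i, Module R (Q i)] :
    Function.Injective (TensorProduct.piRightHom R R M Q) := by
  obtain ⟨n, m, f, g, hf, hg⟩ := Module.FinitePresentation.exists_fin' R M
  rw [← LinearMap.ker_eq_bot, LinearMap.ker_eq_bot']
  intro z hz
  obtain ⟨z, rfl⟩ := LinearMap.rTensor_surjective (∀ i, Q i) hf z
  have h1 : ∀ i, ∃ y, g.rTensor (Q i) y = TensorProduct.piRightHom R R (Fin n → R) Q z i := by
    intro i
    have h2 : f.rTensor (Q i) (TensorProduct.piRightHom R R (Fin n → R) Q z i) = 0 := by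
      rw [← piRightHom_rTensor, hz]; rfl
    exact (rTensor_exact (Q i) hg hf _).1 h2
  choose y hy using h1
  obtain ⟨t, ht⟩ := piRightHom_free_surjective (R := R) m Q y
  have h3 : g.rTensor _ t = z := by
    apply piRightHom_free_injective (R := R) n Q
    funext i
    rw [piRightHom_rTensor, ht, hy]
  rw [← h3]
  exact (rTensor_exact (∀ i, Q i) hg hf _).2 ⟨t, rfl⟩

theorem finite_of_piRightHom_eq
    (h : ∃ z, TensorProduct.piRightHom R R M (fun _ : M => R) z = fun m => m ⊗ₜ[R] (1 : R)) :
    Module.Finite R M := by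
  obtain ⟨z, hz⟩ := h
  obtain ⟨S, rfl⟩ := TensorProduct.exists_finset z
  classical
  refine ⟨⟨S.image Prod.fst, ?_⟩⟩
  rw [eq_top_iff]
  intro m _
  have h1 := congrFun hz m
  have h2 : m = ∑ i ∈ S, i.2 m • i.1 := by
    have h3 := congrArg (TensorProduct.rid R M) h1
    simp only [TensorProduct.rid_tmul, one_smul, map_sum, Finset.sum_apply,
      TensorProduct.piRightHom_tmul] at h3
    exact h3.symm
  rw [h2]
  refine Submodule.sum_mem _ (fun i hi => Submodule.smul_mem _ _ (Submodule.subset_span ?_))
  simp only [Finset.coe_image, Set.mem_image, Finset.mem_coe]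
  exact ⟨i, hi, rfl⟩

theorem finitePresentation_of_piRightHom_injective [Module.Finite R M]
    (h : ∀ (n : ℕ) (K : Submodule R (Fin n → R)),
      Function.Injective (TensorProduct.piRightHom R R M (fun _ : K => R))) :
    Module.FinitePresentation R M := by
  obtain ⟨n, f, hf⟩ := Module.Finite.exists_fin' R M
  refine Module.finitePresentation_of_free_of_surjective f hf ?_
  rw [← Module.Finite.iff_fg]
  apply finite_of_piRightHom_eq
  obtain ⟨z, hz⟩ := piRightHom_free_surjective (R := R) n (fun _ : LinearMap.ker f => R)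
    (fun k => (k : Fin n → R) ⊗ₜ[R] (1 : R))
  have h1 : f.rTensor _ z = 0 := by
    apply h n (LinearMap.ker f)
    funext k
    rw [piRightHom_rTensor, hz]
    simp
  obtain ⟨t, ht⟩ := (rTensor_exact (∀ _ : LinearMap.ker f, R)
    (LinearMap.exact_subtype_ker_map f) hf z).1 h1
  refine ⟨t, ?_⟩
  funext k
  have h2 := congrFun hz k
  rw [← ht, piRightHom_rTensor] at h2
  have h3 : Function.Injective ((LinearMap.ker f).subtype.rTensor R) := by
    have h4 : ∀ x, TensorProduct.rid R _ ((LinearMap.ker f).subtype.rTensor R x)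
        = (LinearMap.ker f).subtype (TensorProduct.rid R _ x) := by
      intro x
      induction x with
      | zero => simp
      | tmul x y => simp
      | add x y hx hy => simp only [map_add, hx, hy]
    intro x y hxy
    apply (TensorProduct.rid R _).injective
    apply (LinearMap.ker f).subtype_injective
    rw [← h4, ← h4, hxy]
  apply h3
  rw [h2]
  simp

end

end Groth.Agent.CalgA.MLBasic
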