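import Mathlib.Algebra.Module.Projective
import Mathlib.LinearAlgebra.FreeModule.Basic
import Mathlib.RingTheory.LocalRing.ResidueField.Basic
import Mathlib.LinearAlgebra.Matrix.ToLin
import Mathlib.LinearAlgebra.Matrix.NonsingularInverse
import Mathlib.Algebra.DirectSum.Module
import Mathlib.LinearAlgebra.DFinsupp
import Mathlib.LinearAlgebra.DirectSum.Basis

/-!
Countably generated projective modules over local rings are free (Stacks 0591, 0592).
-/

set_option autoImplicit false
universe u v w

namespace Groth.Agent.CalgA.ProjLocal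

section local_summand

variable {R : Type u} [CommRing R] {P : Type v} [AddCommGroup P] [Module R P]

/-- An element of a projective module is a finite sum `∑ gᵢ(x) yᵢ`. -/
theorem exists_repr [Module.Projective R P] (x : P) :
    ∃ (n : ℕ) (g : Fin n → (P →ₗ[R] R)) (y : Fin n → P), x = ∑ i, g i x • y i := by
  obtain ⟨s, hs⟩ := (Module.projective_def' (R := R) (P := P)).1 inferInstance
  let T := (s x).support
  refine ⟨T.card, fun i => Finsupp.lapply (T.equivFin.symm i).1 ∘ₗ s,
    fun i => (T.equivFin.symm i).1, ?_⟩
  have h1 : Finsupp.linearCombination R (id : P → P) (s x) = x := LinearMap.congr_fun hs x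
  conv_lhs => rw [← h1]
  rw [Finsupp.linearCombination_apply, Finsupp.sum]
  rw [← Finset.sum_coe_sort T]
  exact (Equiv.sum_comp T.equivFin.symm (fun i : T => (s x) i.1 • i.1)).symm

variable [IsLocalRing R]

/-- Over a local ring, every element of a projective module lies in a finite free direct summand. -/
theorem exists_free_summand [Module.Projective R P] (x : P) :
    ∃ (n : ℕ) (φ : (Fin n → R) →ₗ[R] P) (r : P →ₗ[R] (Fin n → R)),
      r ∘ₗ φ = LinearMap.id ∧ φ (r x) = x := by
  classical
  let n := Nat.find (exists_repr (R := R) x)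
  obtain ⟨g, y, hxy⟩ : ∃ (g : Fin n → (P →ₗ[R] R)) (y : Fin n → P), x = ∑ i, g i x • y i :=
    Nat.find_spec (exists_repr (R := R) x)
  have hmin : ∀ m, m < n → ¬ ∃ (g : Fin m → (P →ₗ[R] R)) (y : Fin m → P), x = ∑ i, g i x • y i :=
    fun m hm => Nat.find_min (exists_repr (R := R) x) hm
  clear_value n
  -- matrix
  let B : Matrix (Fin n) (Fin n) R := fun j i => g j (y i)
  have hrel : ∀ j, ∑ k, (B j k - (1 : Matrix (Fin n) (Fin n) R) j k) * g k x = 0 := by
    intro j
    simp only [sub_mul, Finset.sum_sub_distrib]
    have h1 : g j x = ∑ k, B j k * g k x := by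
      conv_lhs => rw [hxy]
      simp only [map_sum, map_smul, smul_eq_mul, B]
      exact Finset.sum_congr rfl (fun k _ => mul_comm _ _)
    rw [← h1]
    simp [Matrix.one_apply]
  have hB : ∀ j i, B j i - (1 : Matrix (Fin n) (Fin n) R) j i ∈ IsLocalRing.maximalIdeal R := by
    intro j i
    by_contra hcon
    rw [IsLocalRing.mem_maximalIdeal, mem_nonunits_iff, not_not] at hcon
    obtain ⟨u, hu⟩ := hcon
    cases n with
    | zero => exact i.elim0
    | succ m =>
      apply hmin m (Nat.lt_succ_self m)
      have h1 := hrel j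
      rw [Fin.sum_univ_succAbove _ i, ← hu] at h1
      have h2 : g i x = ∑ k, (-(↑u⁻¹ : R) * (B j (i.succAbove k) -
          (1 : Matrix (Fin (m+1)) (Fin (m+1)) R) j (i.succAbove k))) * g (i.succAbove k) x := by
        have h3 : g i x = (↑u⁻¹ : R) * (↑u * g i x) := by rw [← mul_assoc]; simp
        rw [h3, eq_neg_of_add_eq_zero_left h1, mul_neg, Finset.mul_sum, ← Finset.sum_neg_distrib]
        refine Finset.sum_congr rfl (fun k _ => ?_)
        ring
      refine ⟨fun k => g (i.succAbove k), fun k => y (i.succAbove k) +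
        (-(↑u⁻¹ : R) * (B j (i.succAbove k) -
          (1 : Matrix (Fin (m+1)) (Fin (m+1)) R) j (i.succAbove k))) • y i, ?_⟩
      conv_lhs => rw [hxy, Fin.sum_univ_succAbove _ i]
      simp only [smul_add, Finset.sum_add_distrib]
      rw [add_comm]
      congr 1
      rw [h2, Finset.sum_smul]
      refine Finset.sum_congr rfl (fun k _ => ?_)
      rw [smul_smul, mul_comm]
  have hdet : IsUnit B.det := by
    have h1 : (IsLocalRing.residue R) B.det = 1 := by
      rw [RingHom.map_det]
      have h2 : (IsLocalRing.residue R).mapMatrix B = 1 := by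
        rw [← RingHom.map_one (IsLocalRing.residue R).mapMatrix, ← sub_eq_zero, ← RingHom.map_sub]
        ext j i
        simp only [RingHom.mapMatrix_apply, Matrix.map_apply, Matrix.sub_apply, Matrix.zero_apply]
        rw [IsLocalRing.residue_eq_zero_iff]
        exact hB j i
      rw [h2, Matrix.det_one]
    by_contra hcon
    have h2 : B.det ∈ IsLocalRing.maximalIdeal R := hcon
    rw [← IsLocalRing.residue_eq_zero_iff, h1] at h2
    exact one_ne_zero h2
  let φ : (Fin n → R) →ₗ[R] P := Fintype.linearCombination R y
  let r0 : P →ₗ[R] (Fin n → R) := LinearMap.pi g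
  have h1 : r0 ∘ₗ φ = Matrix.toLin' B := by
    apply LinearMap.ext
    intro a
    funext j
    simp only [LinearMap.comp_apply, φ, r0, LinearMap.pi_apply, Fintype.linearCombination_apply,
      map_sum, map_smul, Matrix.toLin'_apply, Matrix.mulVec, dotProduct, smul_eq_mul, B]
    exact Finset.sum_congr rfl (fun k _ => mul_comm _ _)
  have h2 : Matrix.toLin' B⁻¹ ∘ₗ Matrix.toLin' B = LinearMap.id := by
    rw [← Matrix.toLin'_mul, Matrix.nonsing_inv_mul _ hdet, Matrix.toLin'_one]
  refine ⟨n, φ, Matrix.toLin' B⁻¹ ∘ₗ r0, ?_, ?_⟩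
  · rw [LinearMap.comp_assoc, h1, h2]
  · have h3 : φ (r0 x) = x := by
      rw [Fintype.linearCombination_apply]
      exact hxy.symm
    have h4 : (Matrix.toLin' B⁻¹ ∘ₗ r0) x = r0 x := by
      conv_lhs => rw [← h3]
      have h5 : (Matrix.toLin' B⁻¹ ∘ₗ r0) (φ (r0 x)) = (Matrix.toLin' B⁻¹ ∘ₗ (r0 ∘ₗ φ)) (r0 x) := rfl
      rw [h5, h1, h2]
      rfl
    rw [h4, h3]

end local_summand

/-- An abstract splitting of a countably generated module into pieces (used for projective modules
over local rings and for Mittag-Leffler modules over henselian rings). If for every idempotent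
`e ∈ End(P)` and `x ∈ P` there is an idempotent `f` orthogonal to `e`, with `(e + f) x = x` and
`good (range f)`, then a countably generated `P` is the internal direct sum of good submodules. -/
theorem exists_internal_of_step {R : Type u} [CommRing R] {P : Type v} [AddCommGroup P] [Module R P]
    (good : Submodule R P → Prop)
    (hstep : ∀ (e : Module.End R P) (x : P), e * e = e →
      ∃ f : Module.End R P, f * f = f ∧ e * f = 0 ∧ f * e = 0 ∧ good (LinearMap.range f) ∧
        (e + f) x = x)
    (hP : ∃ s : Set P, s.Countable ∧ Submodule.span R s = ⊤) :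
    ∃ L : ℕ → Submodule R P, iSupIndep L ∧ iSup L = ⊤ ∧ ∀ n, good (L n) := by
  obtain ⟨s, hs, hspan⟩ := hP
  obtain ⟨x, hx⟩ := (hs.union (Set.countable_singleton (0 : P))).exists_eq_range
    ⟨0, Or.inr rfl⟩
  have hspan' : Submodule.span R (Set.range x) = ⊤ := by
    rw [eq_top_iff, ← hspan, ← hx]
    exact Submodule.span_mono Set.subset_union_left
  choose! f hf1 hf2 hf3 hf4 hf5 using hstep
  let E : ℕ → Module.End R P := fun n => Nat.rec 0 (fun n e => e + f e (x n)) n
  have hE0 : E 0 = 0 := rfl
  have hEs : ∀ n, E (n+1) = E n + f (E n) (x n) := fun n => rfl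
  have hE : ∀ n, E n * E n = E n := by
    intro n
    induction n with
    | zero => rw [hE0, zero_mul]
    | succ n ih =>
      rw [hEs, add_mul, mul_add, mul_add, ih, hf1 _ _ ih, hf2 _ _ ih, hf3 _ _ ih]
      simp
  let F : ℕ → Module.End R P := fun n => f (E n) (x n)
  have hFF : ∀ n, F n * F n = F n := fun n => hf1 _ _ (hE n)
  have hEF : ∀ n, E n * F n = 0 := fun n => hf2 _ _ (hE n)
  have hFE : ∀ n, F n * E n = 0 := fun n => hf3 _ _ (hE n)
  have hEs' : ∀ n, E (n+1) = E n + F n := fun n => rfl
  have hlt : ∀ m k, E (m + 1 + k) * F m = F m ∧ F m * E (m + 1 + k) = F m := by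
    intro m k
    induction k with
    | zero =>
      rw [add_zero, hEs', add_mul, mul_add, hEF, hFE, hFF]
      simp
    | succ k ih =>
      have h1 : F (m + 1 + k) * F m = 0 := by
        rw [← ih.1, ← mul_assoc, hFE, zero_mul]
      have h2 : F m * F (m + 1 + k) = 0 := by
        rw [← ih.2, mul_assoc, hEF, mul_zero]
      rw [show m + 1 + (k + 1) = (m + 1 + k) + 1 from rfl, hEs', add_mul, mul_add, ih.1, ih.2, h1, h2]
      simp
  have horth : ∀ m n, m ≠ n → F m * F n = 0 := by
    intro m n hmn
    rcases lt_or_gt_of_ne hmn with h | h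
    · obtain ⟨k, rfl⟩ := Nat.exists_eq_add_of_le (Nat.succ_le_of_lt h)
      rw [← (hlt m k).2, mul_assoc, hEF, mul_zero]
    · obtain ⟨k, rfl⟩ := Nat.exists_eq_add_of_le (Nat.succ_le_of_lt h)
      rw [← (hlt n k).1, ← mul_assoc, hFE, zero_mul]
  refine ⟨fun n => LinearMap.range (F n), ?_, ?_, fun n => hf4 _ _ (hE n)⟩
  · intro n
    rw [Submodule.disjoint_def]
    rintro _ ⟨y, rfl⟩ h2
    have h3 : (⨆ (j) (_ : j ≠ n), LinearMap.range (F j)) ≤ LinearMap.ker (F n) := by
      apply iSup₂_le
      rintro j hj _ ⟨z, rfl⟩
      rw [LinearMap.mem_ker, ← Module.End.mul_apply, horth n j hj.symm]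
      rfl
    have h4 := h3 h2
    rw [LinearMap.mem_ker, ← Module.End.mul_apply, hFF] at h4
    exact h4
  · rw [eq_top_iff, ← hspan', Submodule.span_le]
    rintro _ ⟨n, rfl⟩
    have h1 : ∀ n y, E n y ∈ ⨆ n, LinearMap.range (F n) := by
      intro n
      induction n with
      | zero => intro y; rw [hE0]; exact Submodule.zero_mem _
      | succ n ih =>
        intro y
        rw [hEs', LinearMap.add_apply]
        exact Submodule.add_mem _ (ih y) (Submodule.mem_iSup_of_mem n ⟨y, rfl⟩)
    have h2 : E (n+1) (x n) = x n := hf5 _ _ (hE n)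
    have h3 := h1 (n+1) (x n)
    rw [h2] at h3
    exact h3

/-- Over a local ring a countably generated projective module is free. -/
theorem free_of_countable {R : Type u} [CommRing R] {P : Type v} [AddCommGroup P] [Module R P]
    [IsLocalRing R] [Module.Projective R P]
    (hP : ∃ s : Set P, s.Countable ∧ Submodule.span R s = ⊤) : Module.Free R P := by
  classical
  obtain ⟨L, hL1, hL2, hL3⟩ := exists_internal_of_step
    (fun N : Submodule R P => Module.Free R N) (by
      intro e x he
      let g : Module.End R P := 1 - e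
      have hg : g * g = g := by
        simp only [g, sub_mul, mul_sub, he, one_mul, mul_one, sub_self, sub_zero]
      have hge : g * e = 0 := by simp only [g, sub_mul, he, one_mul, sub_self]
      have heg : e * g = 0 := by simp only [g, mul_sub, he, mul_one, sub_self]
      have hgr : ∀ y : LinearMap.range g, g y = y := by
        rintro ⟨_, ⟨z, rfl⟩⟩
        show (g * g) z = g z
        rw [hg]
      have h1 : g.rangeRestrict ∘ₗ (LinearMap.range g).subtype = LinearMap.id := by
        ext y
        exact hgr y
      have : Module.Projective R (LinearMap.range g) := Module.Projective.of_split _ _ h1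
      obtain ⟨n, φ, r, hφr, hx⟩ := exists_free_summand (R := R) (g.rangeRestrict x)
      let φ' : (Fin n → R) →ₗ[R] P := (LinearMap.range g).subtype ∘ₗ φ
      let r' : P →ₗ[R] (Fin n → R) := r ∘ₗ g.rangeRestrict
      have h2 : r' ∘ₗ φ' = LinearMap.id := by
        show r ∘ₗ (g.rangeRestrict ∘ₗ (LinearMap.range g).subtype) ∘ₗ φ = LinearMap.id
        rw [h1, LinearMap.id_comp, hφr]
      have h3 : ∀ y, g (φ' y) = φ' y := fun y => hgr (φ y)
      have h4 : ∀ y, r' (e y) = 0 := by
        intro y
        show r (g.rangeRestrict (e y)) = 0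
        have h5 : g.rangeRestrict (e y) = 0 := by
          apply Subtype.ext
          show (g * e) y = 0
          rw [hge]; rfl
        rw [h5, map_zero]
      have h6 : ∀ y, e (φ' y) = 0 := by
        intro y
        rw [← h3 y]
        show (e * g) (φ' y) = 0
        rw [heg]; rfl
      have h7 : ∀ y, r' (φ' y) = y := fun y => LinearMap.congr_fun h2 y
      refine ⟨φ' ∘ₗ r', ?_, ?_, ?_, ?_, ?_⟩
      · apply LinearMap.ext
        intro y
        show φ' (r' (φ' (r' y))) = φ' (r' y)
        rw [h7]
      · apply LinearMap.ext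
        intro y
        exact h6 _
      · apply LinearMap.ext
        intro y
        show φ' (r' (e y)) = 0
        rw [h4, map_zero]
      · have h8 : LinearMap.range (φ' ∘ₗ r') = LinearMap.range φ' := by
          apply LinearMap.range_comp_of_range_eq_top
          rw [LinearMap.range_eq_top]
          intro y
          exact ⟨φ' y, h7 y⟩
        rw [h8]
        exact Module.Free.of_equiv
          (LinearEquiv.ofInjective φ' (Function.LeftInverse.injective h7))
      · show e x + φ' (r' x) = x
        have h9 : φ' (r' x) = g x := by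
          show ((φ (r (g.rangeRestrict x)) : LinearMap.range g) : P) = g x
          rw [hx]; rfl
        rw [h9]
        simp [g]) hP
  have hint : DirectSum.IsInternal L :=
    DirectSum.isInternal_submodule_of_iSupIndep_of_iSup_eq_top hL1 hL2
  have := hL3
  exact Module.Free.of_equiv (LinearEquiv.ofBijective (DirectSum.coeLinearMap L) hint)

end Groth.Agent.CalgA.ProjLocal
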