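import Groth.Agent.CalgA.DepthSmall
import Mathlib.RingTheory.DiscreteValuationRing.TFAE
import Mathlib.RingTheory.RegularLocalRing.Defs
import Mathlib.RingTheory.Localization.Module
import Mathlib.RingTheory.Localization.LocalizationLocalization
import Mathlib.RingTheory.Spectrum.Prime.Noetherian

/-!
# Local-ring lemmas for Serre's criteria

* regular local rings of dimension at most one;
* the maximal ideal of a Noetherian normal local domain of dimension at least two is not associated
  to `R/xR`;
* `HasRk` and `HasSk` for localizations.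
-/

set_option autoImplicit false

universe u v w

open RingTheory.Sequence IsLocalRing Module

namespace Groth.Agent.CalgA.SerreLocal

section LocalRing

variable {R : Type u} [CommRing R]

/-- A Noetherian local ring with principal maximal ideal, not of dimension zero, is a domain. -/
theorem isDomain_of_principal_of_ne [IsNoetherianRing R] [IsLocalRing R]
    (h : (maximalIdeal R).IsPrincipal) {p : Ideal R} [hp : p.IsPrime] (hne : p ≠ maximalIdeal R) :
    IsDomain R := by
  obtain ⟨x, hx⟩ := h
  have hxp : x ∉ p := by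
    intro hxp
    apply hne
    refine le_antisymm (le_maximalIdeal hp.ne_top) ?_
    rw [hx]
    exact (Ideal.span_singleton_le_iff_mem _).mpr hxp
  have hle : p ≤ maximalIdeal R • p := by
    intro a ha
    have h1 : a ∈ Ideal.span {x} := by
      have := le_maximalIdeal hp.ne_top ha
      rwa [hx] at this
    obtain ⟨b, rfl⟩ := Ideal.mem_span_singleton'.mp h1
    have hb : b ∈ p := (hp.mem_or_mem ha).resolve_right hxp
    rw [mul_comm]
    refine Submodule.smul_mem_smul ?_ hb
    rw [hx]
    exact Ideal.mem_span_singleton_self x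
  have h0 : p = ⊥ := Submodule.eq_bot_of_le_smul_of_le_jacobson_bot (maximalIdeal R) p
    (IsNoetherian.noetherian p) hle (maximalIdeal_le_jacobson _)
  subst h0
  exact IsDomain.of_bot_isPrime R

/-- A regular local ring of dimension at most one is a principal ideal domain. -/
theorem isPrincipalIdealRing_of_isRegularLocalRing [IsRegularLocalRing R]
    (h : ringKrullDim R ≤ 1) : IsDomain R ∧ IsPrincipalIdealRing R := by
  have h1 := IsRegularLocalRing.spanFinrank_maximalIdeal (R := R)
  have h2 : (maximalIdeal R).spanFinrank ≤ 1 := by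
    rw [← h1] at h
    exact_mod_cast h
  have hfg : (maximalIdeal R).FG := IsNoetherian.noetherian _
  have hprin : (maximalIdeal R).IsPrincipal := by
    obtain ⟨s, hs1, hs2⟩ : ∃ s : Set R, s.ncard = (maximalIdeal R).spanFinrank ∧ s.Finite ∧
        Ideal.span s = maximalIdeal R := by
      refine ⟨Submodule.generators (maximalIdeal R), ?_, ?_, ?_⟩
      · exact Submodule.FG.generators_ncard hfg
      · exact Submodule.FG.finite_generators hfg
      · exact Submodule.span_generators _
    have : s.ncard ≤ 1 := hs1.trans_le h2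
    rcases (Set.ncard_le_one_iff_eq hs2.1).mp this with rfl | ⟨a, rfl⟩
    · exact ⟨0, by rw [← hs2.2]; simp⟩
    · exact ⟨a, hs2.2.symm⟩
  have hdom : IsDomain R := by
    by_cases hm : maximalIdeal R = ⊥
    · have := (isField_iff_maximalIdeal_eq (R := R)).mpr hm
      exact this.isDomain
    · by_cases h3 : ∃ p : Ideal R, p.IsPrime ∧ p ≠ maximalIdeal R
      · obtain ⟨p, hp, hne⟩ := h3
        exact isDomain_of_principal_of_ne hprin hne
      · exfalso
        push Not at h3
        apply hm
        have h4 : ringKrullDim R ≤ 0 := by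
          rw [← Nat.cast_zero, ← Ring.krullDimLE_iff, Ring.krullDimLE_zero_iff]
          intro I hI
          rw [h3 I hI]
          infer_instance
        rw [← h1] at h4
        have h5 : (maximalIdeal R).spanFinrank = 0 := by
          have : (maximalIdeal R).spanFinrank ≤ 0 := by exact_mod_cast h4
          omega
        exact (Submodule.spanFinrank_eq_zero_iff_eq_bot hfg).mp h5
  exact ⟨hdom, ((tfae_of_isNoetherianRing_of_isLocalRing_of_isDomain R).out 4 0).mp hprin⟩

theorem isIntegrallyClosed_of_isRegularLocalRing [IsRegularLocalRing R]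
    (h : ringKrullDim R ≤ 1) : IsDomain R ∧ IsIntegrallyClosed R := by
  obtain ⟨h1, h2⟩ := isPrincipalIdealRing_of_isRegularLocalRing h
  exact ⟨h1, inferInstance⟩

/-- A Noetherian normal local domain of dimension at most one is regular. -/
theorem isRegularLocalRing_of_isIntegrallyClosed [IsNoetherianRing R] [IsLocalRing R] [IsDomain R]
    [IsIntegrallyClosed R] (h : ringKrullDim R ≤ 1) : IsRegularLocalRing R := by
  have h1 : ∀ P : Ideal R, P ≠ ⊥ → P.IsPrime → P = maximalIdeal R := by
    intro P hP hP'
    have : Ring.KrullDimLE 1 R := Ring.krullDimLE_iff.mpr h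
    exact eq_maximalIdeal ((Ring.krullDimLE_one_iff_of_isPrime_bot.mp this) P hP hP')
  have h2 : IsIntegrallyClosed R ∧ ∀ P : Ideal R, P ≠ ⊥ → P.IsPrime → P = maximalIdeal R :=
    ⟨inferInstance, h1⟩
  have : IsPrincipalIdealRing R :=
    ((tfae_of_isNoetherianRing_of_isLocalRing_of_isDomain R).out 3 0).mp h2
  infer_instance

/-- In a Noetherian normal local domain, if `m b ⊆ xR` for some `b ∉ xR` with `x ≠ 0` then the maximal
ideal is principal. -/
theorem isPrincipal_of_isIntegrallyClosed [IsNoetherianRing R] [IsLocalRing R] [IsDomain R]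
    [IsIntegrallyClosed R] {a b : R} (ha₁ : a ∈ maximalIdeal R) (ha₂ : a ≠ 0)
    (hb₂ : b ∉ Ideal.span {a}) (hb₃ : ∀ m ∈ maximalIdeal R, ∃ k : R, k * a = b * m) :
    (maximalIdeal R).IsPrincipal := by
  have hb₄ : b ≠ 0 := by rintro rfl; apply hb₂; exact zero_mem _
  let K := FractionRing R
  let x : K := algebraMap R K b / algebraMap R K a
  let M := Submodule.map (Algebra.linearMap R K) (maximalIdeal R)
  have ha₃ : algebraMap R K a ≠ 0 := IsFractionRing.to_map_eq_zero_iff.not.mpr ha₂
  by_cases hx : ∀ y ∈ M, x * y ∈ M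
  · have := isIntegral_of_smul_mem_submodule M ?_ ?_ x hx
    · obtain ⟨y, e⟩ := IsIntegrallyClosed.algebraMap_eq_of_integral this
      refine (hb₂ (Ideal.mem_span_singleton'.mpr ⟨y, ?_⟩)).elim
      apply IsFractionRing.injective R K
      rw [map_mul, e, div_mul_cancel₀ _ ha₃]
    · rw [Submodule.ne_bot_iff]; refine ⟨_, ⟨a, ha₁, rfl⟩, ?_⟩
      exact (IsFractionRing.to_map_eq_zero_iff (K := K)).not.mpr ha₂
    · apply Submodule.FG.map; exact IsNoetherian.noetherian _
  · have :
        (M.map (DistribSMul.toLinearMap R K x)).comap (Algebra.linearMap R K) = ⊤ := by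
      contrapose! hx with h
      rintro m' ⟨m, hm, rfl : algebraMap R K m = m'⟩
      obtain ⟨k, hk⟩ := hb₃ m hm
      have hk' : x * algebraMap R K m = algebraMap R K k := by
        rw [← mul_div_right_comm, ← map_mul, ← hk, map_mul, mul_div_cancel_right₀ _ ha₃]
      exact ⟨k, le_maximalIdeal h ⟨_, ⟨_, hm, rfl⟩, hk'⟩, hk'.symm⟩
    obtain ⟨y, hy₁, hy₂⟩ : ∃ y ∈ maximalIdeal R, b * y = a := by
      rw [Ideal.eq_top_iff_one, Submodule.mem_comap] at this
      obtain ⟨_, ⟨y, hy, rfl⟩, hy' : x * algebraMap R K y = algebraMap R K 1⟩ := this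
      rw [map_one, ← mul_div_right_comm, div_eq_one_iff_eq ha₃, ← map_mul] at hy'
      exact ⟨y, hy, IsFractionRing.injective R K hy'⟩
    refine ⟨⟨y, ?_⟩⟩
    apply le_antisymm
    · intro m hm; obtain ⟨k, hk⟩ := hb₃ m hm; rw [← hy₂, mul_comm, mul_assoc] at hk
      rw [← mul_left_cancel₀ hb₄ hk, mul_comm]; exact Ideal.mem_span_singleton'.mpr ⟨_, rfl⟩
    · rwa [Submodule.span_le, Set.singleton_subset_iff]

/-- A Noetherian normal local domain of dimension at least two has depth at least two. -/
theorem two_le_depth_of_isIntegrallyClosed [IsNoetherianRing R] [IsLocalRing R] [IsDomain R]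
    [IsIntegrallyClosed R] (h : ¬ ringKrullDim R ≤ 1) : 2 ≤ LocCoh.depth R R := by
  have hnf : maximalIdeal R ≠ ⊥ := by
    intro hm
    apply h
    have hf := (isField_iff_maximalIdeal_eq (R := R)).mpr hm
    rw [ringKrullDim_eq_zero_of_isField hf]
    exact zero_le_one
  obtain ⟨x, hx, hx0⟩ := Submodule.exists_mem_ne_zero_of_ne_bot hnf
  refine DepthSmall.two_le_depth_of hx (IsSMulRegular.of_ne_zero hx0) ?_
  intro hass
  obtain ⟨hp, b, hb⟩ := (isAssociatedPrime_iff (R := R)).mp hass
  obtain ⟨b, rfl⟩ := Submodule.Quotient.mk_surjective _ b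
  have hmem : ∀ r : R, r ∈ maximalIdeal R ↔ ∃ k : R, k * x = b * r := by
    intro r
    rw [hb, Submodule.mem_colon_singleton, ← Submodule.Quotient.mk_smul, Submodule.mem_bot,
      Submodule.Quotient.mk_eq_zero, Submodule.mem_smul_pointwise_iff_exists]
    constructor
    · rintro ⟨k, -, hk⟩
      refine ⟨k, ?_⟩
      rw [mul_comm k x, mul_comm b r]
      exact hk
    · rintro ⟨k, hk⟩
      refine ⟨k, trivial, ?_⟩
      rw [mul_comm k x, mul_comm b r] at hk
      exact hk
  have hprin := isPrincipal_of_isIntegrallyClosed hx hx0 (b := b) (by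
    intro hbx
    have h1 : (1 : R) ∈ maximalIdeal R := by
      rw [hmem]
      obtain ⟨k, hk⟩ := Ideal.mem_span_singleton'.mp hbx
      exact ⟨k, by rw [hk, mul_one]⟩
    exact hp.ne_top (Ideal.eq_top_of_isUnit_mem _ h1 isUnit_one)) (fun m hm => (hmem m).mp hm)
  apply h
  have : IsPrincipalIdealRing R :=
    ((tfae_of_isNoetherianRing_of_isLocalRing_of_isDomain R).out 4 0).mp hprin
  exact Ring.krullDimLE_iff.mp (inferInstance : Ring.KrullDimLE 1 R)

end LocalRing

section Localization

variable {A : Type u} [CommRing A]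

/-- The localization of `A` at `p` as a module and as a ring. -/
theorem nonempty_localizedModule_equiv (p : Ideal A) [p.IsPrime] :
    Nonempty (LocalizedModule p.primeCompl A ≃ₗ[Localization.AtPrime p] Localization.AtPrime p) :=
  ⟨(IsLocalizedModule.linearEquiv p.primeCompl (LocalizedModule.mkLinearMap p.primeCompl A)
    (Algebra.linearMap A (Localization.AtPrime p))).extendScalarsOfIsLocalization p.primeCompl
      (Localization.AtPrime p)⟩

/-- `(S_k)` for a ring in terms of its local rings. -/
theorem hasSk_self_iff (k : ℕ) :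
    LocCoh.HasSk k A A ↔ ∀ (p : Ideal A) [p.IsPrime], min (k : ℕ∞) p.height ≤
      LocCoh.depth (Localization.AtPrime p) (Localization.AtPrime p) := by
  unfold LocCoh.HasSk
  refine forall_congr' fun p => forall_congr' fun hp => ?_
  obtain ⟨e⟩ := nonempty_localizedModule_equiv p
  rw [Module.supportDim_eq_of_equiv e, DepthSmall.depth_congr e,
    Module.supportDim_self_eq_ringKrullDim, IsLocalization.AtPrime.ringKrullDim_eq_height p]
  have h1 : ((k : ℕ) : WithBot ℕ∞) = (((k : ℕ) : ℕ∞) : WithBot ℕ∞) := rfl
  rw [h1, ← WithBot.coe_min, WithBot.coe_le_coe]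

/-- Localizing twice. -/
theorem nonempty_localization_localization_equiv (p : Ideal A) [p.IsPrime]
    (P : Ideal (Localization.AtPrime p)) [P.IsPrime] :
    Nonempty (Localization.AtPrime (P.comap (algebraMap A (Localization.AtPrime p))) ≃+*
      Localization.AtPrime P) :=
  ⟨(IsLocalization.localizationLocalizationAtPrimeIsoLocalization p.primeCompl P).toRingEquiv⟩

theorem hasRk_localization {k : ℕ} (h : LocCoh.HasRk k A) (p : Ideal A) [p.IsPrime] :
    LocCoh.HasRk k (Localization.AtPrime p) := by
  intro P hP hk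
  obtain ⟨e⟩ := nonempty_localization_localization_equiv p P
  have h1 : (P.comap (algebraMap A (Localization.AtPrime p))).height ≤ k := by
    have := IsLocalization.height_under p.primeCompl P
    rw [Ideal.under] at this
    rw [this]
    exact hk
  have := h _ h1
  exact IsRegularLocalRing.of_ringEquiv e

theorem hasSk_localization {k : ℕ} (h : LocCoh.HasSk k A A) (p : Ideal A) [p.IsPrime] :
    LocCoh.HasSk k (Localization.AtPrime p) (Localization.AtPrime p) := by
  rw [hasSk_self_iff] at h ⊢
  intro P hP
  obtain ⟨e⟩ := nonempty_localization_localization_equiv p P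
  have h1 : (P.comap (algebraMap A (Localization.AtPrime p))).height = P.height :=
    IsLocalization.height_under p.primeCompl P
  rw [← h1, ← DepthSmall.depth_ringEquiv e]
  exact h _

end Localization

end Groth.Agent.CalgA.SerreLocal
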